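import Groth.Agent.AbTors.Rank
import Groth.Agent.H23.BcComp
import Groth.Prelude.Def_SGA7a
import Mathlib.CategoryTheory.Comma.Over.Pullback

/-!
Homomorphisms and Tate modules under extension of the ground field.
-/

set_option linter.style.haveILetI false
set_option linter.unusedSectionVars false
set_option backward.isDefEq.respectTransparency false
set_option backward.isDefEq.respectTransparency.types false
set_option maxHeartbeats 1000000

universe u

open CategoryTheory CategoryTheory.Limits MonoidalCategory CartesianMonoidalCategory MonObj AlgebraicGeometry TopologicalSpace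

namespace Groth.Agent.AbTors

variable {k Ω : Type u} [Field k] [Field Ω] [Algebra k Ω]

/-- The morphism of spectra of a field extension. -/
noncomputable abbrev ext (k Ω : Type u) [Field k] [Field Ω] [Algebra k Ω] :
    Spec (CommRingCat.of Ω) ⟶ Spec (CommRingCat.of k) :=
  Spec.map (CommRingCat.ofHom (algebraMap k Ω))

/-- The tautological point. -/
noncomputable abbrev tpt (Ω : Type u) [Field Ω] : Over (Spec (CommRingCat.of Ω)) :=
  Over.mk (𝟙 (Spec (CommRingCat.of Ω)))

variable {A B : Over (Spec (CommRingCat.of k))}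

variable (Ω) in
theorem map_injective (f g : A ⟶ B) (h : (Over.pullback (ext k Ω)).map f = (Over.pullback (ext k Ω)).map g) : f = g := by
  apply Over.OverMorphism.ext
  let p := pullback.fst A.hom (ext k Ω)
  haveI : Flat (ext k Ω) := Flat.SpecMap_iff.2 (RingHom.flat_algebraMap_iff.2 inferInstance)
  haveI : Surjective (ext k Ω) :=
    ⟨fun x => ⟨IsLocalRing.closedPoint Ω, Subsingleton.elim (α := PrimeSpectrum k) _ _⟩⟩
  haveI : QuasiCompact (ext k Ω) := inferInstance
  haveI : Flat p := MorphismProperty.pullback_fst _ _ inferInstance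
  haveI : Surjective p := MorphismProperty.pullback_fst _ _ inferInstance
  haveI : QuasiCompact p := MorphismProperty.pullback_fst _ _ inferInstance
  rw [← cancel_epi p]
  have h1 := congrArg (fun φ => φ.left ≫ pullback.fst B.hom (ext k Ω)) h
  simpa [p] using h1

/-- The diagonal point of the base change of `Spec Ω`. -/
noncomputable def diag : tpt Ω ⟶ (Over.pullback (ext k Ω)).obj (Over.mk (ext k Ω)) :=
  Over.homMk (pullback.lift (f := (Over.mk (ext k Ω)).hom) (𝟙 _) (𝟙 _) (by simp)) (pullback.lift_snd _ _ _)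

/-- A point with values in `Ω` as a point of the base change. -/
noncomputable def ptHom (a : Over.mk (ext k Ω) ⟶ A) : tpt Ω ⟶ (Over.pullback (ext k Ω)).obj A :=
  diag ≫ (Over.pullback (ext k Ω)).map a

theorem ptHom_comp (a : Over.mk (ext k Ω) ⟶ A) (f : A ⟶ B) :
    ptHom (a ≫ f) = ptHom a ≫ (Over.pullback (ext k Ω)).map f := by
  rw [ptHom, ptHom, Functor.map_comp, Category.assoc]

theorem ptHom_left (a : Over.mk (ext k Ω) ⟶ A) : (ptHom a).left ≫ pullback.fst A.hom (ext k Ω) = a.left := by
  simp [ptHom, diag]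
  exact Category.id_comp _

theorem ptHom_bijective : Function.Bijective (ptHom (k := k) (Ω := Ω) (A := A)) := by
  refine ⟨fun a b h => Over.OverMorphism.ext (by rw [← ptHom_left a, h, ptHom_left]), fun b => ?_⟩
  refine ⟨Over.homMk (b.left ≫ pullback.fst _ _) (by
    show (b.left ≫ pullback.fst A.hom (ext k Ω)) ≫ A.hom = ext k Ω
    rw [Category.assoc, pullback.condition, ← Category.assoc,
      show b.left ≫ pullback.snd A.hom (ext k Ω) = 𝟙 _ from Over.w b]
    exact Category.id_comp _), Over.OverMorphism.ext (pullback.hom_ext (ptHom_left _) ?_)⟩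
  refine Eq.trans ?_ (Over.w b).symm
  exact Over.w (ptHom _)

section Grp

variable [GrpObj A] [GrpObj B]

theorem ptHom_mul (a b : Over.mk (ext k Ω) ⟶ A) :
    ptHom (a * b) = (ptHom a * ptHom b : tpt Ω ⟶ Red.bc (ext k Ω) A) := by
  rw [ptHom, ptHom, ptHom, ← MonObj.comp_mul, ← CategoryTheory.Functor.map_mul]

/-- The homomorphism on points. -/
noncomputable def ptMul : (Over.mk (ext k Ω) ⟶ A) ≃* (tpt Ω ⟶ Red.bc (ext k Ω) A) :=
  MulEquiv.mk (Equiv.ofBijective _ ptHom_bijective) ptHom_mul

variable [IsCommMonObj A] [IsCommMonObj (Red.bc (ext k Ω) A)] {l : ℕ}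

/-- Tate modules of points over `Ω`. -/
noncomputable def tateEquiv :
    AbDual.TateMod A l (SGA7.pt Ω) ≃+ AbDual.TateMod (Red.bc (ext k Ω) A) l (tpt Ω) where
  toFun X := ⟨fun n => (ptMul (A := A)).toAdditive ((X : ℕ → Additive (Over.mk (ext k Ω) ⟶ A)) n),
    fun n => by rw [← map_nsmul, X.torsion n, map_zero], fun n => by rw [← map_nsmul, X.compat n]⟩
  invFun Y := ⟨fun n => (ptMul (A := A)).toAdditive.symm ((Y : ℕ → Additive (tpt Ω ⟶ Red.bc (ext k Ω) A)) n),
    fun n => by rw [← map_nsmul, Y.torsion n, map_zero], fun n => by rw [← map_nsmul, Y.compat n]⟩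
  left_inv X := AbDual.TateMod.ext fun n => AddEquiv.symm_apply_apply _ _
  right_inv Y := AbDual.TateMod.ext fun n => AddEquiv.apply_symm_apply _ _
  map_add' X Y := AbDual.TateMod.ext fun n => map_add _ _ _

theorem tateEquiv_smul [Fact l.Prime] (c : ℤ_[l]) (X : AbDual.TateMod A l (SGA7.pt Ω)) :
    tateEquiv (c • X) = c • tateEquiv (A := A) X :=
  AbDual.TateMod.ext fun n => map_nsmul (ptMul (A := A)).toAdditive _ _

theorem tateEquiv_tateMap [IsCommMonObj B] [IsCommMonObj (Red.bc (ext k Ω) B)] (f : A ⟶ B) [IsMonHom f]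
    (X : AbDual.TateMod A l (SGA7.pt Ω)) :
    tateEquiv (AbDual.tateMap f X) =
      AbDual.tateMap (A := Red.bc (ext k Ω) A) (B := Red.bc (ext k Ω) B) ((Over.pullback (ext k Ω)).map f) (tateEquiv X) :=
  AbDual.TateMod.ext fun n => congrArg Additive.ofMul (ptHom_comp _ f)

end Grp

variable (k) in
/-- Proper and geometrically integral are kept by base change. -/
theorem bc_props (Ω : Type u) [Field Ω] [Algebra k Ω] (A : Over (Spec (CommRingCat.of k))) [IsProper A.hom]
    [GeometricallyIntegral A.hom] :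
    IsProper (Red.bc (ext k Ω) A).hom ∧ GeometricallyIntegral (Red.bc (ext k Ω) A).hom :=
  ⟨MorphismProperty.pullback_snd _ _ inferInstance, MorphismProperty.pullback_snd _ _ inferInstance⟩

variable (A B) [GrpObj A] [IsProper A.hom] [GeometricallyIntegral A.hom]
  [GrpObj B] [IsCommMonObj B] [IsProper B.hom] [GeometricallyIntegral B.hom]

/-- The Tate representation is `ℤ_l`-linearly faithful over any ground field. -/
theorem linearIndependent_tateMapₗ_pt [IsCommMonObj A] [IsAlgClosed Ω] {l : ℕ} [Fact l.Prime] (hl : (l : k) ≠ 0)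
    {n : ℕ} (e : Fin n → (A ⟶ B)) [he' : ∀ i, IsMonHom (e i)]
    (he : LinearIndependent ℤ fun i => Additive.ofMul (e i)) :
    LinearIndependent ℤ_[l] fun i => AbDual.tateMapₗ (l := l) (T := SGA7.pt Ω) (e i) := by
  let F := Over.pullback (ext k Ω)
  obtain ⟨_, _⟩ := bc_props k Ω A
  obtain ⟨_, _⟩ := bc_props k Ω B
  haveI : IsCommMonObj (Red.bc (ext k Ω) A) := isCommMonObj_of_isProper_of_geometricallyIntegral _
  haveI : IsCommMonObj (Red.bc (ext k Ω) B) := isCommMonObj_of_isProper_of_geometricallyIntegral _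
  have hlΩ : (l : Ω) ≠ 0 := by
    rw [← map_natCast (algebraMap k Ω) l]
    exact (map_ne_zero (algebraMap k Ω)).2 hl
  let e' : Fin n → (Red.bc (ext k Ω) A ⟶ Red.bc (ext k Ω) B) := fun i => F.map (e i)
  haveI : ∀ i, IsMonHom (e' i) := fun i => H23.BcComp.isMonHom_bc_map (ext k Ω) (e i)
  let φ : Additive (A ⟶ B) →+ Additive (Red.bc (ext k Ω) A ⟶ Red.bc (ext k Ω) B) :=
    MonoidHom.toAdditive
      (MonoidHom.mk' (fun f => (F.map f : Red.bc (ext k Ω) A ⟶ Red.bc (ext k Ω) B)) fun f g => by
        rw [CategoryTheory.Functor.map_mul])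
  have he2 : LinearIndependent ℤ fun i => Additive.ofMul (e' i) :=
    he.map' φ.toIntLinearMap (LinearMap.ker_eq_bot.2 fun x y h => Additive.toMul.injective
      (map_injective Ω _ _ (congrArg Additive.toMul h)))
  have key := linearIndependent_tateMapₗ hlΩ e' he2
  rw [Fintype.linearIndependent_iff] at key ⊢
  intro c hc
  refine key c (LinearMap.ext fun Y => ?_)
  obtain ⟨X, rfl⟩ := tateEquiv.surjective Y
  have h := congrArg (tateEquiv (A := B)) (LinearMap.congr_fun hc X)
  simp only [LinearMap.sum_apply, LinearMap.smul_apply, LinearMap.zero_apply, map_sum, map_zero, tateEquiv_smul] at h ⊢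
  refine Eq.trans (Finset.sum_congr rfl fun i _ => ?_) h
  exact congrArg (c i • ·) (tateEquiv_tateMap (e i) X).symm

/-- Homomorphisms form a finitely generated group over any field. -/
theorem fg_homs_field : ∃ (n : ℕ) (e : Fin n → (A ⟶ B)), (∀ i, IsMonHom (e i)) ∧
    ∀ f : A ⟶ B, IsMonHom f → ∃ a : Fin n → ℤ, f = ∏ i, e i ^ a i := by
  classical
  let Ω := AlgebraicClosure k
  let F := Over.pullback (ext k Ω)
  obtain ⟨_, _⟩ := bc_props k Ω A
  obtain ⟨_, _⟩ := bc_props k Ω B
  haveI : IsCommMonObj (Red.bc (ext k Ω) B) := isCommMonObj_of_isProper_of_geometricallyIntegral _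
  let H : AddSubgroup (Additive (A ⟶ B)) :=
    { carrier := {f | IsMonHom f.toMul}
      zero_mem' := by
        refine ⟨by rw [toMul_zero, MonObj.comp_one, ← MonObj.one_eq_one], ?_⟩
        have hμ' : μ[B] = fst B B * snd B B := by rw [Hom.mul_def, lift_fst_snd, Category.id_comp]
        rw [toMul_zero, hμ', MonObj.comp_one, MonObj.comp_mul, tensorHom_fst, tensorHom_snd, MonObj.comp_one,
          MonObj.comp_one, _root_.one_mul]
      add_mem' := fun {f g} hf hg => by
        haveI : IsMonHom f.toMul := hf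
        haveI : IsMonHom g.toMul := hg
        exact isMonHom_mul f.toMul g.toMul
      neg_mem' := fun {f} hf => by
        haveI : IsMonHom f.toMul := hf
        exact isMonHom_inv f.toMul }
  let ψ : H →+ HomAb (Red.bc (ext k Ω) A) (Red.bc (ext k Ω) B) :=
    AddMonoidHom.mk' (fun f => Additive.ofMul (⟨F.map f.1.toMul,
      haveI : IsMonHom f.1.toMul := f.2
      H23.BcComp.isMonHom_bc_map (ext k Ω) f.1.toMul⟩ : homs (Red.bc (ext k Ω) A) (Red.bc (ext k Ω) B)))
      fun f g => Additive.toMul.injective (Subtype.ext (by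
        show F.map (f.1.toMul * g.1.toMul) = _
        rw [CategoryTheory.Functor.map_mul]
        rfl))
  haveI : Module.Finite ℤ (HomAb (Red.bc (ext k Ω) A) (Red.bc (ext k Ω) B)) :=
    Module.Finite.iff_addGroup_fg.2 ⟨fg_homs _ _⟩
  haveI : Module.Finite ℤ H := Module.Finite.of_injective ψ.toIntLinearMap fun x y h => Subtype.ext
    (Additive.toMul.injective (map_injective Ω _ _ (congrArg (fun z => (Additive.toMul z).1) h)))
  obtain ⟨n, s, hs⟩ := Module.Finite.exists_fin (R := ℤ) (M := H)
  refine ⟨n, fun i => (s i).1.toMul, fun i => (s i).2, fun f hf => ?_⟩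
  obtain ⟨a, ha⟩ := (Submodule.mem_span_range_iff_exists_fun ℤ).1
    (hs ▸ Submodule.mem_top : (⟨Additive.ofMul f, hf⟩ : H) ∈ Submodule.span ℤ (Set.range s))
  refine ⟨a, ?_⟩
  have h := congrArg (fun x : H => x.1.toMul) ha
  simp only [AddSubgroup.val_finsetSum, AddSubgroup.coe_zsmul, toMul_sum, toMul_zsmul] at h
  exact h.symm

end Groth.Agent.AbTors
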