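import Groth.Agent.Lib.CurveRR
import Groth.Agent.Lib.CurveDeg
import Groth.Agent.AmpleVan.Pull
import Groth.Agent.S12002
import Groth.Agent.H23.Isogeny

/-!
Degrees on integral proper curves: additivity on classes and positivity for ample modules.
-/

set_option linter.style.haveILetI false
set_option linter.unusedSectionVars false
set_option backward.isDefEq.respectTransparency false
set_option backward.isDefEq.respectTransparency.types false
set_option maxHeartbeats 1000000

universe u

open CategoryTheory CategoryTheory.Limits AlgebraicGeometry TopologicalSpace Opposite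

namespace Groth.Agent.AbTors

open Groth.Agent.H23 Groth.Agent.AmpleX
open scoped Groth.Agent.H23.PicMul

theorem isAmple_pullback_of_isAffineHom {X Z : Scheme.{u}} (v : Z ⟶ X) [IsAffineHom v] [CompactSpace Z]
    {L : X.Modules} (h : CohB1.IsAmple L) : CohB1.IsAmple ((Scheme.Modules.pullback v).obj L) := by
  refine AmpleX.isAmple_iff.2 ⟨PicClLib.isInvertible_pullback v h.1, inferInstance, fun z => ?_⟩
  obtain ⟨-, -, hx⟩ := AmpleX.isAmple_iff.1 h
  obtain ⟨m, hm, s, hz, hs⟩ := hx (v z)
  obtain ⟨e⟩ := PicClLib.nonempty_pullback_structureModule v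
  have hg := InvX.genLocus_pullback v (InvX.isInvertible_tensorPow h.1 m) s e.symm
  obtain ⟨t, ht⟩ := AmpleX.exists_section_of_cl_eq
    (B := CohB1.tensorPow ((Scheme.Modules.pullback v).obj L) m)
    (by
      show PicF.pullCl v (PicF.cl (CohB1.tensorPow L m)) = _
      rw [PicMul.cl_tensorPow, PicMul.pullCl_pow, PicMul.cl_tensorPow]
      rfl) (e.symm.hom ≫ (Scheme.Modules.pullback v).map s)
  rw [hg] at ht
  exact ⟨m, hm, t, ht.symm ▸ hz, ht.symm ▸ hs.preimage v⟩

variable (k : Type u) [Field k] {X : Scheme.{u}} [X.Over (Spec (CommRingCat.of k))] [IsIntegral X]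
  [IsProper (X ↘ Spec (CommRingCat.of k))]

/-- The degree of a class. -/
noncomputable def dg : PicF.Cl X → ℤ :=
  Quot.lift (fun L => Curv2.deg k X L 1) fun _ _ h => CurveRR.deg_congr k h.some 1

theorem dg_cl (L : X.Modules) : dg k (PicF.cl L) = Curv2.deg k X L 1 := rfl

theorem dg_one : dg k (1 : PicF.Cl X) = 0 := CurveDeg.deg_structureModule k

theorem dg_mul (hdim : topologicalKrullDim X = 1) {c d : PicF.Cl X} (hc : PicF.IsInvertibleCl c)
    (hd : PicF.IsInvertibleCl d) : dg k (c * d) = dg k c + dg k d := by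
  obtain ⟨L, rfl, hL⟩ := hc
  obtain ⟨M, rfl, hM⟩ := hd
  rw [← PicMul.cl_tensor]
  exact CurveRR.deg_tensor k hdim hL hM

theorem dg_pow (hdim : topologicalKrullDim X = 1) {c : PicF.Cl X} (hc : PicF.IsInvertibleCl c) :
    ∀ n : ℕ, dg k (c ^ n) = n * dg k c
  | 0 => by rw [pow_zero, dg_one]; simp
  | n + 1 => by
    rw [pow_succ, dg_mul k hdim ?_ hc, dg_pow hdim hc n]
    · push_cast; ring
    · obtain ⟨L, rfl, hL⟩ := hc
      exact ⟨_, PicMul.cl_tensorPow L n, InvX.isInvertible_tensorPow hL n⟩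

include k in
theorem not_isAffine (hdim : topologicalKrullDim X = 1) : ¬ IsAffine X := fun _ => by
  haveI : Finite X := S12002.finite_of_isProper_quasiAffine (X ↘ Spec (CommRingCat.of k))
  haveI : JacobsonSpace X := LocallyOfFiniteType.jacobsonSpace (X ↘ Spec (CommRingCat.of k))
  haveI : DiscreteTopology X := inferInstance
  have h := topologicalKrullDim_zero_of_discreteTopology X
  rw [hdim] at h
  exact absurd h (not_le.2 zero_lt_one)

/-- An ample module on a curve has positive degree. -/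
theorem deg_pos_of_isAmple (hdim : topologicalKrullDim X = 1) {L : X.Modules} (hL : CohB1.IsAmple L) :
    0 < dg k (PicF.cl L) := by
  obtain ⟨-, -, hx⟩ := id hL
  obtain ⟨n, s, hxs, haff⟩ := hx (genericPoint X)
  have hLn := InvX.isInvertible_tensorPow hL.1 (n + 1)
  have hs : s ≠ 0 := by
    rintro rfl
    obtain ⟨V0, hV, hxV⟩ := Opens.mem_sSup.1 hxs
    let V : X.Opens := V0
    haveI : Nonempty (V.ι ''ᵁ ⊤ : X.Opens) := ⟨⟨_, ⟨⟨_, hxV⟩, trivial, rfl⟩⟩⟩
    haveI : IsIso ((Scheme.Modules.restrictFunctor V.ι).map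
      (0 : Coh.structureModule X ⟶ CohB1.tensorPow L (n + 1))) := hV
    let φ := (((Scheme.Modules.restrictFunctor V.ι).map
      (0 : Coh.structureModule X ⟶ CohB1.tensorPow L (n + 1))).app (⊤ : V.toScheme.Opens))
    haveI : IsIso φ := inferInstance
    have hinj : Function.Injective φ := (ConcreteCategory.bijective_of_isIso φ).1
    refine @zero_ne_one Γ(X, V.ι ''ᵁ ⊤) _ _ inferInstance (hinj ?_)
    show (0 : Coh.structureModule X ⟶ CohB1.tensorPow L (n + 1)).app (V.ι ''ᵁ ⊤) _ =
      (0 : Coh.structureModule X ⟶ CohB1.tensorPow L (n + 1)).app (V.ι ''ᵁ ⊤) _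
    rw [Scheme.Modules.Hom.zero_app]
    rfl
  obtain ⟨h1, h2⟩ := CurveDeg.deg_le_and_isIso k hdim.le (PicLoc.isInvertible_structureModule X) hLn s hs
  rw [CurveDeg.deg_structureModule] at h1 h2
  rw [← dg_cl k, PicMul.cl_tensorPow, dg_pow k hdim ⟨L, rfl, hL.1⟩] at h1 h2
  have hpos : (0 : ℤ) < ((n + 1 : ℕ) : ℤ) := by positivity
  rcases lt_trichotomy (dg k (PicF.cl L)) 0 with h | h | h
  · exact absurd h1 (not_le.2 (mul_neg_of_pos_of_neg hpos h))
  · exfalso
    haveI := h2 (by rw [h, mul_zero])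
    have : CohB1.genLocus _ s = ⊤ := top_le_iff.1 (le_sSup (show IsIso _ from inferInstance))
    rw [this] at haff
    haveI : IsAffine (⊤ : X.Opens).toScheme := haff
    exact not_isAffine k hdim (IsAffine.of_isIso X.topIso.inv)
  · exact h

end Groth.Agent.AbTors
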