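import Groth.Agent.VarDim.Top
import Groth.Agent.VarDim.Local
import Groth.Agent.VarDim.Fibre
import Groth.Agent.LC.PrimeSel
import Groth.Agent.H23.RedSub
import Groth.Agent.H23.Isogeny
import Mathlib.AlgebraicGeometry.Properties

/-!
Curves through a given closed point leaving a given closed set.
-/

set_option linter.style.haveILetI false
set_option linter.unusedSectionVars false
set_option backward.isDefEq.respectTransparency false
set_option backward.isDefEq.respectTransparency.types false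
set_option maxHeartbeats 1000000

universe u

open CategoryTheory CategoryTheory.Limits AlgebraicGeometry TopologicalSpace

namespace Groth.Agent.AbTors

variable {k : Type u} [Field k] {X : Scheme.{u}} (f : X ⟶ Spec (CommRingCat.of k)) [LocallyOfFiniteType f]

/-- Among the generalisations of a closed point avoiding a closed set through it, one has degree one. -/
theorem exists_deg_one {x g : X} (hx : IsClosed ({x} : Set X)) (hg : g ⤳ x) {Z : Set X} (hZ : IsClosed Z)
    (hxZ : x ∈ Z) (hgZ : g ∉ Z) : ∃ ξ, ξ ⤳ x ∧ ξ ∉ Z ∧ VarDim.deg f ξ = 1 := by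
  classical
  have hP : ∃ d, ∃ ξ, ξ ⤳ x ∧ ξ ∉ Z ∧ VarDim.deg f ξ = d := ⟨_, g, hg, hgZ, rfl⟩
  obtain ⟨ξ, hξx, hξZ, hξd⟩ := Nat.find_spec hP
  have hx0 := (VarDim.closedPoint_iff_deg_eq_zero f x).1 hx
  have hne : ξ ≠ x := fun h => hξZ (h ▸ hxZ)
  refine ⟨ξ, hξx, hξZ, ?_⟩
  by_contra h1
  obtain ⟨U, hU, hxU, -⟩ := exists_isAffineOpen_mem_and_subset (x := x) (U := ⊤) trivial
  obtain ⟨q, hq⟩ := VarDim.exists_fromSpec_eq hU (hξx.mem_open U.2 hxU)
  obtain ⟨p, hp⟩ := VarDim.exists_fromSpec_eq hU hxU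
  obtain ⟨_, hft⟩ := VarDim.exists_algebra f hU
  haveI : IsNoetherianRing Γ(X, U) := Algebra.FiniteType.isNoetherianRing k _
  have hinj := hU.fromSpec.isOpenEmbedding.injective
  -- an intermediate prime
  obtain ⟨r, hqr, hrp⟩ : ∃ r, q < r ∧ r < p := by
    by_contra hno
    push Not at hno
    have := VarDim.deg_of_immediate f hne hξx fun y h1' h2' => by
      obtain ⟨r, rfl⟩ := VarDim.exists_fromSpec_eq hU (h2'.mem_open U.2 hxU)
      have hqr : q ≤ r := (VarDim.fromSpec_specializes_iff hU q r).1 (hq.symm ▸ h1')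
      have hrp : r ≤ p := (VarDim.fromSpec_specializes_iff hU r p).1 (hp.symm ▸ h2')
      rcases hqr.eq_or_lt with h | h
      · exact Or.inl (by rw [← h, hq])
      · exact Or.inr (by rw [hrp.eq_or_lt.resolve_right (hno r h), hp])
    omega
  -- a function on the chart vanishing on `Z` but not at `ξ`
  obtain ⟨I, hI⟩ := (PrimeSpectrum.isClosed_iff_zeroLocus_ideal _).1 (hZ.preimage hU.fromSpec.continuous)
  obtain ⟨a, haI, haq⟩ : ∃ a ∈ I, a ∉ q.asIdeal := by
    by_contra h
    push Not at h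
    have : q ∈ (hU.fromSpec ⁻¹' Z : Set (PrimeSpectrum Γ(X, U))) := hI.symm ▸ h
    exact hξZ (hq ▸ this)
  have hap : a ∈ p.asIdeal := by
    have : p ∈ (hU.fromSpec ⁻¹' Z : Set (PrimeSpectrum Γ(X, U))) := show hU.fromSpec p ∈ Z from hp.symm ▸ hxZ
    exact (hI ▸ this : p ∈ PrimeSpectrum.zeroLocus (I : Set Γ(X, U))) haI
  let π := Ideal.Quotient.mk q.asIdeal
  have hmap : ∀ s : PrimeSpectrum Γ(X, U), q ≤ s → (s.asIdeal.map π).IsPrime ∧ (s.asIdeal.map π).comap π = s.asIdeal :=
    fun s hs => ⟨Ideal.map_isPrime_of_surjective Ideal.Quotient.mk_surjective (by rw [Ideal.mk_ker]; exact hs), by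
      rw [Ideal.comap_map_of_surjective π Ideal.Quotient.mk_surjective, ← RingHom.ker_eq_comap_bot, Ideal.mk_ker]
      exact sup_eq_left.2 hs⟩
  obtain ⟨hpp, hpc⟩ := hmap p (hqr.le.trans hrp.le)
  obtain ⟨hrpr, hrc⟩ := hmap r hqr.le
  haveI := hpp
  haveI := hrpr
  have hheight : 1 < (p.asIdeal.map π).height := by
    let P : PrimeSpectrum (Γ(X, U) ⧸ q.asIdeal) := ⟨_, hpp⟩
    let R : PrimeSpectrum (Γ(X, U) ⧸ q.asIdeal) := ⟨_, hrpr⟩
    let B : PrimeSpectrum (Γ(X, U) ⧸ q.asIdeal) := ⟨⊥, Ideal.isPrime_bot⟩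
    have hBR : B < R := bot_lt_iff_ne_bot.2 fun h => hqr.ne (PrimeSpectrum.ext (by
      rw [← hrc, show r.asIdeal.map π = ⊥ from congrArg PrimeSpectrum.asIdeal h, ← RingHom.ker_eq_comap_bot,
        Ideal.mk_ker]))
    have hRP : R < P := lt_of_le_of_ne (Ideal.map_mono hrp.le) fun h => hrp.ne (PrimeSpectrum.ext (by
      rw [← hrc, ← hpc, show r.asIdeal.map π = p.asIdeal.map π from congrArg PrimeSpectrum.asIdeal h]))
    rw [show (p.asIdeal.map π).height = Order.height P from PrimeSpectrum.height_eq_orderHeight P]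
    calc (1 : ℕ∞) < 1 + 1 := by norm_num
      _ ≤ Order.height R + 1 := by
        gcongr
        exact le_trans le_add_self (Order.height_add_one_le hBR)
      _ ≤ Order.height P := Order.height_add_one_le hRP
  obtain ⟨t, ht, htb, htp, hat⟩ := LC.exists_prime_between_domain (p.asIdeal.map π) hheight
    (a := π a) (Ideal.mem_map_of_mem π hap) (fun h => haq (Ideal.Quotient.eq_zero_iff_mem.1 h))
  let s : PrimeSpectrum Γ(X, U) := ⟨t.comap π, inferInstance⟩
  have hqs : q < s := by
    refine lt_of_le_of_ne (fun z hz => ?_) fun h => ?_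
    · show π z ∈ t
      rw [Ideal.Quotient.eq_zero_iff_mem.2 hz]
      exact t.zero_mem
    · exact hat (by
        exfalso
        apply htb
        rw [← Ideal.map_comap_of_surjective π Ideal.Quotient.mk_surjective t,
          show t.comap π = q.asIdeal from congrArg PrimeSpectrum.asIdeal h.symm, Ideal.map_quotient_self])
  have hsp : s ≤ p := fun z hz => by
    rw [← hpc]
    exact htp.le hz
  have hlt : VarDim.deg f (hU.fromSpec s) < VarDim.deg f ξ := by
    refine VarDim.deg_strictMono f ?_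
    rw [← hq]
    exact lt_iff_le_not_ge.2 ⟨(VarDim.fromSpec_specializes_iff hU q s).2 hqs.le,
      fun h => hqs.not_ge ((VarDim.fromSpec_specializes_iff hU s q).1 h)⟩
  rw [hξd] at hlt
  refine Nat.find_min hP hlt ⟨hU.fromSpec s, hp ▸ (VarDim.fromSpec_specializes_iff hU s p).2 hsp, fun hmem => ?_, rfl⟩
  have : s ∈ PrimeSpectrum.zeroLocus (I : Set Γ(X, U)) := hI ▸ (show s ∈ hU.fromSpec ⁻¹' Z from hmem)
  exact hat (this haI)

/-- A curve through a closed point, not inside a given proper closed subset through it. -/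
theorem exists_curve [IsIntegral X] [IsProper f] {x : X} (hx : IsClosed ({x} : Set X)) {Z : Set X} (hZ : IsClosed Z)
    (hxZ : x ∈ Z) (hne : Z ≠ Set.univ) :
    ∃ (C : Scheme.{u}) (i : C ⟶ X), IsClosedImmersion i ∧ IsIntegral C ∧ topologicalKrullDim C = 1 ∧
      x ∈ Set.range i ∧ ¬ Set.range i ⊆ Z := by
  have hgZ : genericPoint X ∉ Z := fun h => hne (Set.eq_univ_of_forall fun y =>
    hZ.closure_subset_iff.2 (Set.singleton_subset_iff.2 h) (specializes_iff_mem_closure.1 (genericPoint_specializes y)))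
  obtain ⟨ξ, hξx, hξZ, hξd⟩ := exists_deg_one f hx (genericPoint_specializes x) hZ hxZ hgZ
  obtain ⟨C, i, hi, hred, hr⟩ := H23.RedSub.exists_reduced_subscheme X (isClosed_closure (s := {ξ})).isLocallyClosed
  haveI := hi
  haveI : IsClosedImmersion i := .of_isPreimmersion i (by rw [hr]; exact isClosed_closure)
  haveI := hred
  let e : C ≃ₜ (closure {ξ} : Set X) := i.isClosedEmbedding.toIsEmbedding.toHomeomorph.trans (Homeomorph.setCongr hr)
  haveI : IrreducibleSpace (closure {ξ} : Set X) :=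
    Subtype.irreducibleSpace isIrreducible_singleton.closure
  haveI : IrreducibleSpace C := e.irreducibleSpace_iff.mpr inferInstance
  refine ⟨C, i, inferInstance, isIntegral_iff_irreducibleSpace_and_isReduced C |>.2 ⟨inferInstance, hred⟩, ?_, ?_, ?_⟩
  · rw [e.isHomeomorph.topologicalKrullDim_eq, VarDim.topologicalKrullDim_closure_singleton f, hξd]
    rfl
  · rw [hr]; exact specializes_iff_mem_closure.1 hξx
  · rw [hr]; exact fun h => hξZ (h (subset_closure rfl))

end Groth.Agent.AbTors
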