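import Groth.Agent.AbTors.Factor
import Groth.Agent.AbTors.Curve
import Groth.Agent.AbTors.Deg

/-!
Homomorphisms of abelian varieties: a quadratic form, saturations of finitely generated groups are
finitely generated, and `ℤ_l`-linear independence on Tate modules.
-/

set_option linter.style.haveILetI false
set_option linter.unusedSectionVars false
set_option backward.isDefEq.respectTransparency false
set_option backward.isDefEq.respectTransparency.types false
set_option maxHeartbeats 1000000

universe u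

open CategoryTheory CategoryTheory.Limits MonoidalCategory CartesianMonoidalCategory MonObj AlgebraicGeometry TopologicalSpace

namespace Groth.Agent.AbTors

open Groth.Agent.H23 Groth.Agent.AVCube
open scoped Groth.Agent.H23.PicMul

variable {k : Type u} [Field k] [IsAlgClosed k]
variable (A B : Over (Spec (CommRingCat.of k))) [GrpObj A] [IsProper A.hom] [GeometricallyIntegral A.hom]
  [GrpObj B] [IsCommMonObj B] [IsProper B.hom] [GeometricallyIntegral B.hom]

local notation "𝐩" => 𝟙_ (Over (Spec (CommRingCat.of k)))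

/-- The group of homomorphisms. -/
def homs : Subgroup (A ⟶ B) where
  carrier := {f | IsMonHom f}
  one_mem' := ⟨by rw [MonObj.comp_one, ← MonObj.one_eq_one], by
    have hμ' : μ[B] = fst B B * snd B B := by rw [Hom.mul_def, lift_fst_snd, Category.id_comp]
    rw [hμ', MonObj.comp_one, MonObj.comp_mul, tensorHom_fst, tensorHom_snd, MonObj.comp_one, MonObj.comp_one,
      _root_.one_mul]⟩
  mul_mem' {f g} hf hg := by
    haveI : IsMonHom f := hf
    haveI : IsMonHom g := hg
    refine ⟨?_, ?_⟩
    · rw [MonObj.comp_mul, IsMonHom.one_hom, IsMonHom.one_hom, MonObj.one_eq_one, _root_.one_mul]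
    · have hμ : μ[A] = fst A A * snd A A := by rw [Hom.mul_def, lift_fst_snd, Category.id_comp]
      have hμ' : μ[B] = fst B B * snd B B := by rw [Hom.mul_def, lift_fst_snd, Category.id_comp]
      rw [hμ, hμ', MonObj.comp_mul, MonObj.mul_comp, MonObj.mul_comp, MonObj.comp_mul, tensorHom_fst, tensorHom_snd,
        MonObj.comp_mul, MonObj.comp_mul, _root_.mul_mul_mul_comm]
  inv_mem' {f} hf := by
    haveI : IsMonHom f := hf
    refine ⟨?_, ?_⟩
    · rw [GrpObj.comp_inv, IsMonHom.one_hom, MonObj.one_eq_one, inv_one]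
    · have hμ : μ[A] = fst A A * snd A A := by rw [Hom.mul_def, lift_fst_snd, Category.id_comp]
      have hμ' : μ[B] = fst B B * snd B B := by rw [Hom.mul_def, lift_fst_snd, Category.id_comp]
      rw [hμ, hμ', GrpObj.comp_inv, MonObj.mul_comp, MonObj.comp_mul, tensorHom_fst, tensorHom_snd,
        GrpObj.comp_inv, GrpObj.comp_inv, mul_inv]

/-- The homomorphisms, written additively. -/
abbrev HomAb : Type u := Additive (homs A B)

/-- A curve in `A` through the origin. -/
structure Crv where
  /-- The curve. -/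
  C : Over (Spec (CommRingCat.of k))
  /-- Its inclusion. -/
  j : C ⟶ A
  proper : IsProper C.hom
  closed : IsClosedImmersion j.left
  integral : IsIntegral C.left
  dim : topologicalKrullDim C.left = 1
  mem : η[A].left (IsLocalRing.closedPoint k) ∈ Set.range j.left

variable {A B} {M : B.left.Modules} (hM : CohB1.IsAmple M)
  (hsym : Nonempty ((Scheme.Modules.pullback ((𝟙 B)⁻¹ : B ⟶ B).left).obj M ≅ M))

/-- The degree of the pullback of `M` to a curve. -/
noncomputable def qC (c : Crv A) (f : HomAb A B) : ℤ :=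
  letI : c.C.left.Over (Spec (CommRingCat.of k)) := ⟨c.C.hom⟩
  haveI := c.integral
  haveI : IsProper (c.C.left ↘ Spec (CommRingCat.of k)) := c.proper
  dg k (pc hM.1 (c.j ≫ (f.toMul.1 : A ⟶ B)) : PicF.Cl c.C.left)

theorem isInvertibleCl_pc {T : Over (Spec (CommRingCat.of k))} (f : T ⟶ B) :
    PicF.IsInvertibleCl (pc hM.1 f : PicF.Cl T.left) :=
  PicClLib.isInvertibleCl_pullCl f.left ⟨M, rfl, hM.1⟩

theorem qC_cube (c : Crv A) (f g h : HomAb A B) :
    qC hM c (f + g + h) + qC hM c f + qC hM c g + qC hM c h =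
      qC hM c (f + g) + qC hM c (f + h) + qC hM c (g + h) := by
  letI : c.C.left.Over (Spec (CommRingCat.of k)) := ⟨c.C.hom⟩
  haveI := c.integral
  haveI : IsProper (c.C.left ↘ Spec (CommRingCat.of k)) := c.proper
  have e := congrArg Units.val (cube_rel hM.1 (c.j ≫ (f.toMul.1 : A ⟶ B)) (c.j ≫ (g.toMul.1 : A ⟶ B))
    (c.j ≫ (h.toMul.1 : A ⟶ B)))
  simp only [Units.val_mul, ← MonObj.comp_mul] at e
  have hi := fun {x y : PicF.Cl c.C.left} => @PicMul.isInvertibleCl_mul _ x y
  have e' := congrArg (dg k) e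
  rw [dg_mul k c.dim (hi (hi (isInvertibleCl_pc hM _) (isInvertibleCl_pc hM _)) (isInvertibleCl_pc hM _))
      (isInvertibleCl_pc hM _),
    dg_mul k c.dim (hi (isInvertibleCl_pc hM _) (isInvertibleCl_pc hM _)) (isInvertibleCl_pc hM _),
    dg_mul k c.dim (isInvertibleCl_pc hM _) (isInvertibleCl_pc hM _),
    dg_mul k c.dim (hi (isInvertibleCl_pc hM _) (isInvertibleCl_pc hM _)) (isInvertibleCl_pc hM _),
    dg_mul k c.dim (isInvertibleCl_pc hM _) (isInvertibleCl_pc hM _)] at e'
  exact e'

theorem qC_of_const (c : Crv A) {f : HomAb A B} (h : c.j ≫ (f.toMul.1 : A ⟶ B) = 1) : qC hM c f = 0 := by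
  letI : c.C.left.Over (Spec (CommRingCat.of k)) := ⟨c.C.hom⟩
  haveI := c.integral
  haveI : IsProper (c.C.left ↘ Spec (CommRingCat.of k)) := c.proper
  show dg k _ = 0
  rw [h, pc_one, Units.val_one]
  exact dg_one k

include hsym in
theorem qC_neg (c : Crv A) (f : HomAb A B) : qC hM c (-f) = qC hM c f := by
  letI : c.C.left.Over (Spec (CommRingCat.of k)) := ⟨c.C.hom⟩
  haveI := c.integral
  haveI : IsProper (c.C.left ↘ Spec (CommRingCat.of k)) := c.proper
  have h : pc hM.1 ((𝟙 B)⁻¹ : B ⟶ B) = pc hM.1 (𝟙 B) := by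
    ext
    rw [val_pc_id, val_pc]
    exact (PicGrp.cl_eq_cl_iff _ _).2 hsym
  show dg k (pc hM.1 (c.j ≫ (f.toMul.1 : A ⟶ B)⁻¹) : PicF.Cl c.C.left) = _
  rw [show c.j ≫ (f.toMul.1 : A ⟶ B)⁻¹ = (c.j ≫ (f.toMul.1 : A ⟶ B)) ≫ (𝟙 B)⁻¹ by
    rw [GrpObj.comp_inv, GrpObj.comp_inv, Category.comp_id], ← pull_pc, h, pull_pc, Category.comp_id]
  rfl

theorem qC_pos_or_const (c : Crv A) (f : HomAb A B) :
    0 < qC hM c f ∨ c.j ≫ (f.toMul.1 : A ⟶ B) = 1 := by
  letI : c.C.left.Over (Spec (CommRingCat.of k)) := ⟨c.C.hom⟩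
  haveI := c.integral
  haveI := c.proper
  haveI : IsProper (c.C.left ↘ Spec (CommRingCat.of k)) := c.proper
  haveI := c.closed
  haveI : IsMonHom (f.toMul.1 : A ⟶ B) := f.toMul.2
  let v := c.j ≫ (f.toMul.1 : A ⟶ B)
  let pt := IsLocalRing.closedPoint k
  haveI : IsProper v.left := by
    haveI : IsProper (v.left ≫ B.hom) := by rw [Over.w]; exact c.proper
    exact IsProper.of_comp v.left B.hom
  have hdeg : VarDim.deg c.C.hom (genericPoint c.C.left) = 1 := by
    have := VarDim.topologicalKrullDim_eq_deg_genericPoint c.C.hom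
    rw [c.dim] at this
    exact_mod_cast this.symm
  rcases Nat.eq_zero_or_pos (VarDim.deg B.hom (v.left (genericPoint c.C.left))) with h0 | h0
  · right
    have hcl := (VarDim.closedPoint_iff_deg_eq_zero B.hom _).2 h0
    have hall : ∀ z, v.left z = v.left (genericPoint c.C.left) := fun z =>
      ((genericPoint_specializes z).map v.left.continuous).mem_closed hcl rfl
    obtain ⟨z0, hz0⟩ := c.mem
    have hgen : v.left (genericPoint c.C.left) = η[B].left pt := by
      rw [← hall z0]
      show (c.j.left ≫ (f.toMul.1 : A ⟶ B).left) z0 = _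
      rw [Scheme.Hom.comp_apply, hz0, ← Scheme.Hom.comp_apply, ← Over.comp_left, IsMonHom.one_hom]
    haveI : IsClosedImmersion η[B].left := by
      haveI : IsClosedImmersion (η[B].left ≫ B.hom) := by
        rw [Over.w η[B]]; exact inferInstanceAs (IsClosedImmersion (𝟙 (Spec (CommRingCat.of k))))
      exact IsClosedImmersion.of_comp η[B].left B.hom
    obtain ⟨g, hg⟩ := RedSub.exists_lift_closed v.left η[B].left (by
      rintro _ ⟨z, rfl⟩
      exact ⟨pt, by rw [hall z, hgen]⟩)
    let g' : c.C ⟶ 𝐩 := Over.homMk g (by rw [← Over.w η[B], reassoc_of% hg, Over.w])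
    show v = 1
    rw [← show g' ≫ η[B] = v from Over.OverMorphism.ext hg, MonObj.one_eq_one, MonObj.comp_one]
  · left
    haveI : IsFinite v.left := by
      refine Isogeny.isFinite_of_fdeg_eq_zero v.left fun z => ?_
      have h := VarDim.deg_eq_add v.left B.hom (Over.w v) z
      by_cases hz : z = genericPoint c.C.left
      · subst hz; omega
      · have hlt : VarDim.deg c.C.hom z < VarDim.deg c.C.hom (genericPoint c.C.left) := by
          by_contra hle
          push Not at hle
          exact hz (VarDim.eq_of_specializes_of_deg_le c.C.hom (genericPoint_specializes z) hle).symm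
        omega
    haveI : CompactSpace c.C.left := QuasiCompact.compactSpace_of_compactSpace c.C.hom
    exact deg_pos_of_isAmple k c.dim (isAmple_pullback_of_isAffineHom v.left hM)

theorem qC_nonneg (c : Crv A) (f : HomAb A B) : 0 ≤ qC hM c f :=
  (qC_pos_or_const hM c f).elim le_of_lt fun h => (qC_of_const hM c h).ge

/-- The bilinear form of the degree on a curve. -/
noncomputable def bC (c : Crv A) : HomAb A B →+ HomAb A B →+ ℤ :=
  AddMonoidHom.mk' (fun f => AddMonoidHom.mk' (fun g => qC hM c (f + g) - qC hM c f - qC hM c g) fun g h => by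
    have := qC_cube hM c f g h
    simp only [← add_assoc]
    omega) fun f g => AddMonoidHom.ext fun h => by
    have := qC_cube hM c f g h
    simp only [AddMonoidHom.mk'_apply, AddMonoidHom.add_apply]
    omega

include hsym in
theorem bC_self (c : Crv A) (f : HomAb A B) : bC hM c f f = 2 * qC hM c f := by
  show qC hM c (f + f) - qC hM c f - qC hM c f = _
  have h := qC_cube hM c f f (-f)
  rw [add_neg_cancel_right, qC_neg hM hsym c f, add_neg_cancel] at h
  have h0 : qC hM c (0 : HomAb A B) = 0 := qC_of_const hM c (MonObj.comp_one _)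
  omega

theorem bC_const_right (c : Crv A) (f : HomAb A B) {g : HomAb A B} (h : c.j ≫ (g.toMul.1 : A ⟶ B) = 1) :
    bC hM c f g = 0 := by
  show qC hM c (f + g) - qC hM c f - qC hM c g = 0
  have : c.j ≫ ((f + g).toMul.1 : A ⟶ B) = c.j ≫ (f.toMul.1 : A ⟶ B) := by
    show c.j ≫ ((f.toMul.1 : A ⟶ B) * g.toMul.1) = _
    rw [MonObj.comp_mul, h, _root_.mul_one]
  rw [qC_of_const hM c h]
  unfold qC
  rw [this]
  simp

/-- Multiplication by a nonzero integer kills no homomorphism. -/
theorem pow_eq_one_iff {f : A ⟶ B} [IsMonHom f] {n : ℕ} (hn : n ≠ 0) : f ^ n = 1 ↔ f = 1 := by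
  refine ⟨fun h => ?_, fun h => by rw [h, one_pow]⟩
  have hn1 : 1 ≤ n := Nat.one_le_iff_ne_zero.2 hn
  haveI := AVMulN.isFinite_pow (A := A) n hn1
  haveI := AVMulN.surjective_pow (A := A) n hn1
  haveI := AVDegLib.flat_pow (A := A) n hn1
  haveI : Epi (𝟙 A ^ n : A ⟶ A) :=
    (Over.forget _).epi_of_epi_map (inferInstanceAs (Epi (𝟙 A ^ n : A ⟶ A).left))
  rw [← cancel_epi (𝟙 A ^ n : A ⟶ A), MonObj.comp_one, MonObj.pow_comp, Category.id_comp, h]

instance instTorsionFree : IsAddTorsionFree (HomAb A B) := ⟨fun n hn f g h => by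
  haveI : IsMonHom ((f - g).toMul.1 : A ⟶ B) := (f - g).toMul.2
  have h0 : n • (f - g) = 0 := by rw [nsmul_sub]; exact sub_eq_zero.2 h
  have h1 : ((f - g).toMul.1 : A ⟶ B) ^ n = 1 := congrArg (fun x : HomAb A B => (x.toMul.1 : A ⟶ B)) h0
  exact sub_eq_zero.1 (Additive.toMul.injective (Subtype.ext ((pow_eq_one_iff hn).1 h1)))⟩

variable (A) in
theorem exists_crv_not_const {f : A ⟶ B} [IsMonHom f] (hf : f ≠ 1) : ∃ c : Crv A, c.j ≫ f ≠ 1 := by
  haveI : IsIntegral A.left := GeometricallyIntegral.isIntegral_of_subsingleton A.hom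
  haveI : IsClosedImmersion η[B].left := by
    haveI : IsClosedImmersion (η[B].left ≫ B.hom) := by
      rw [Over.w η[B]]; exact inferInstanceAs (IsClosedImmersion (𝟙 (Spec (CommRingCat.of k))))
    exact IsClosedImmersion.of_comp η[B].left B.hom
  let pt := IsLocalRing.closedPoint k
  let Z := f.left ⁻¹' Set.range η[B].left
  have hx : IsClosed ({η[A].left pt} : Set A.left) := (pointEquivClosedPoint A.hom ⟨η[A].left, Over.w η[A]⟩).2
  have hxZ : η[A].left pt ∈ Z := ⟨pt, by rw [← Scheme.Hom.comp_apply, ← Over.comp_left, IsMonHom.one_hom]⟩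
  have hne : Z ≠ Set.univ := fun h => by
    obtain ⟨g, hg⟩ := RedSub.exists_lift_closed f.left η[B].left (Set.range_subset_iff.2 fun z => h.ge trivial)
    let g' : A ⟶ 𝐩 := Over.homMk g (by rw [← Over.w η[B], reassoc_of% hg, Over.w])
    exact hf (by rw [← show g' ≫ η[B] = f from Over.OverMorphism.ext hg, MonObj.one_eq_one, MonObj.comp_one])
  obtain ⟨C, i, hi, hint, hdim, hmem, hsub⟩ :=
    exists_curve A.hom hx (η[B].left.isClosedEmbedding.isClosed_range.preimage f.left.continuous) hxZ hne
  haveI := hi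
  refine ⟨⟨Over.mk (i ≫ A.hom), Over.homMk i rfl, inferInstanceAs (IsProper (i ≫ A.hom)), hi, hint, hdim, hmem⟩, fun h => hsub ?_⟩
  rintro _ ⟨z, rfl⟩
  have h1 := congrArg (fun φ : Over.mk (i ≫ A.hom) ⟶ B => φ.left z) h
  exact ⟨(i ≫ A.hom) z, h1.symm⟩

variable (A B) in
/-- The saturation of a finitely generated group of homomorphisms is finitely generated. -/
theorem fg_saturation {n : ℕ} (e : Fin n → HomAb A B) :
    ∃ S : AddSubgroup (HomAb A B), S.FG ∧ (∀ i, e i ∈ S) ∧
      ∀ (x : HomAb A B) (m : ℕ), m ≠ 0 → m • x ∈ S → x ∈ S := by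
  classical
  obtain ⟨M, hM, hsym'⟩ := S8121.result k B
  have hsym : Nonempty ((Scheme.Modules.pullback ((𝟙 B)⁻¹ : B ⟶ B).left).obj M ≅ M) := by
    obtain ⟨φ⟩ := hsym'
    first | exact ⟨φ⟩ | exact ⟨φ.symm⟩
  let Γ := Submodule.span ℤ (Set.range e)
  haveI : Module.Finite ℤ Γ := Module.Finite.span_of_finite ℤ (Set.finite_range e)
  let R := Module.finrank ℤ Γ
  -- finitely many curves detecting every member
  obtain ⟨r, cs, hcs⟩ : ∃ (r : ℕ) (cs : Fin r → Crv A),
      ∀ x ∈ Γ, (∀ i, (cs i).j ≫ (x.toMul.1 : A ⟶ B) = 1) → x = 0 := by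
    by_contra hno
    push Not at hno
    have key : ∀ r : ℕ, ∃ (cs : Fin r → Crv A) (xs : Fin r → Γ),
        ∀ a : Fin r → ℤ, (∀ i, bC hM (cs i) (xs i : HomAb A B) (∑ l, a l • (xs l : HomAb A B)) = 0) → a = 0 := by
      intro r
      induction r with
      | zero => exact ⟨Fin.elim0, Fin.elim0, fun a _ => funext fun i => i.elim0⟩
      | succ r ih =>
        obtain ⟨cs, xs, hind⟩ := ih
        obtain ⟨x, hx, hkill, hx0⟩ := hno r cs
        haveI : IsMonHom (x.toMul.1 : A ⟶ B) := x.toMul.2
        obtain ⟨c, hc⟩ := exists_crv_not_const A (f := (x.toMul.1 : A ⟶ B))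
          fun h => hx0 (Additive.toMul.injective (Subtype.ext h))
        refine ⟨Fin.snoc cs c, Fin.snoc xs ⟨x, hx⟩, fun a ha => ?_⟩
        have hsum : ∑ l, a l • ((Fin.snoc xs ⟨x, hx⟩ : Fin (r + 1) → Γ) l : HomAb A B) =
            ∑ l : Fin r, a l.castSucc • (xs l : HomAb A B) + a (Fin.last r) • x := by
          rw [Fin.sum_univ_castSucc]
          simp [Fin.snoc_castSucc, Fin.snoc_last]
        rw [hsum] at ha
        have hold : ∀ l : Fin r, a l.castSucc = 0 := congrFun (hind _ fun i => by
          have h := ha i.castSucc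
          rw [Fin.snoc_castSucc, Fin.snoc_castSucc, map_add, map_zsmul, bC_const_right hM (cs i) _ (hkill i),
            smul_zero, add_zero] at h
          exact h)
        have h := ha (Fin.last r)
        simp only [Fin.snoc_last, hold, zero_zsmul, Finset.sum_const_zero, zero_add, map_zsmul, bC_self hM hsym] at h
        have hpos := (qC_pos_or_const hM c x).resolve_right hc
        have hlast : a (Fin.last r) = 0 := by
          rcases (show a (Fin.last r) = 0 ∨ qC hM c x = 0 by simpa using h) with h' | h'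
          · exact h'
          · omega
        exact funext fun l => Fin.lastCases hlast hold l
    obtain ⟨cs, xs, hind⟩ := key (R + 1)
    have hli : LinearIndependent ℤ xs := Fintype.linearIndependent_iff.2 fun a ha => congrFun (hind a fun i => by
      have hz : ∑ l, a l • (xs l : HomAb A B) = 0 := by
        have := congrArg (Subtype.val : Γ → HomAb A B) ha
        simpa using this
      rw [hz, map_zero])
    have := hli.fintype_card_le_finrank
    rw [Fintype.card_fin] at this
    omega
  let S : AddSubgroup (HomAb A B) :=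
    { carrier := {x | ∃ m : ℕ, m ≠ 0 ∧ m • x ∈ Γ}
      zero_mem' := ⟨1, one_ne_zero, by simp⟩
      add_mem' := fun {x y} hx hy => by
        obtain ⟨m, hm, hx⟩ := hx
        obtain ⟨m', hm', hy⟩ := hy
        have h1 : (m * m') • x ∈ Γ := by rw [mul_comm, mul_nsmul']; exact nsmul_mem hx m'
        have h2 : (m * m') • y ∈ Γ := by rw [mul_nsmul']; exact nsmul_mem hy m
        exact ⟨m * m', mul_ne_zero hm hm', by rw [smul_add]; exact add_mem h1 h2⟩
      neg_mem' := fun {x} ⟨m, hm, hx⟩ => ⟨m, hm, by rw [smul_neg]; exact neg_mem hx⟩ }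
  have heS : ∀ i, e i ∈ S := fun i => ⟨1, one_ne_zero, by rw [one_nsmul]; exact Submodule.subset_span ⟨i, rfl⟩⟩
  have hsat : ∀ (x : HomAb A B) (m : ℕ), m ≠ 0 → m • x ∈ S → x ∈ S := fun x m hm h => by
    obtain ⟨m', hm', hx⟩ := (show ∃ m' : ℕ, m' ≠ 0 ∧ m' • m • x ∈ Γ from h)
    exact ⟨m' * m, mul_ne_zero hm' hm, by rwa [mul_nsmul']⟩
  refine ⟨S, ?_, heS, hsat⟩
  let b : HomAb A B →+ HomAb A B →+ ℤ := ∑ i, bC hM (cs i)
  let φ : S →+ (Fin n → ℤ) := AddMonoidHom.mk' (fun x i => b (x : HomAb A B) (e i)) fun x y => by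
    funext i
    simp
  have hb0 : ∀ x : S, φ x = 0 → x = 0 := by
    rintro ⟨x, m, hm, hmx⟩ h
    have hall : b x (m • x) = 0 := by
      have : ∀ y ∈ Γ, b x y = 0 := fun y hy => by
        induction hy using Submodule.span_induction with
        | mem y hy => obtain ⟨i, rfl⟩ := hy; exact congrFun h i
        | zero => exact map_zero _
        | add y z _ _ h1 h2 => rw [map_add, h1, h2, add_zero]
        | smul a y _ h1 => rw [map_zsmul, h1, smul_zero]
      exact this _ hmx
    rw [map_nsmul, smul_eq_zero] at hall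
    have hsum : ∑ i, 2 * qC hM (cs i) x = 0 := by
      have h2 : b x x = 0 := hall.resolve_left hm
      simp only [b, AddMonoidHom.finset_sum_apply, bC_self hM hsym] at h2
      exact h2
    have hz := (Finset.sum_eq_zero_iff_of_nonneg fun i _ => by
      have := qC_nonneg hM (cs i) x; omega).1 hsum
    have hconst : ∀ i, (cs i).j ≫ (x.toMul.1 : A ⟶ B) = 1 := fun i =>
      (qC_pos_or_const hM (cs i) x).resolve_left (by have := hz i (Finset.mem_univ i); omega)
    have hmx0 : m • x = 0 := hcs _ hmx fun i => by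
      show (cs i).j ≫ (x.toMul.1 : A ⟶ B) ^ m = 1
      rw [MonObj.comp_pow, hconst, one_pow]
    refine Subtype.ext ?_
    exact (nsmul_right_injective hm).eq_iff.1 (hmx0.trans (smul_zero _).symm)
  haveI : AddGroup.FG S := Module.Finite.iff_addGroup_fg.1
    (Module.Finite.of_injective φ.toIntLinearMap ((injective_iff_map_eq_zero φ).2 hb0))
  exact (AddGroup.fg_iff_addSubgroup_fg S).1 inferInstance

set_option synthInstance.maxHeartbeats 200000 in
/-- Independent homomorphisms stay independent over `ℤ_l` on Tate modules. -/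
theorem linearIndependent_tateMapₗ [IsCommMonObj A] {l : ℕ} [Fact l.Prime] (hl : (l : k) ≠ 0) {n : ℕ}
    (e : Fin n → (A ⟶ B)) [∀ i, IsMonHom (e i)] (he : LinearIndependent ℤ fun i => Additive.ofMul (e i)) :
    LinearIndependent ℤ_[l] fun i => AbDual.tateMapₗ (l := l) (T := Over.mk (𝟙 (Spec (CommRingCat.of k)))) (e i) := by
  classical
  let T : Over (Spec (CommRingCat.of k)) := Over.mk (𝟙 (Spec (CommRingCat.of k)))
  let eH : Fin n → HomAb A B := fun i => Additive.ofMul (⟨e i, ‹∀ i, IsMonHom (e i)› i⟩ : homs A B)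
  obtain ⟨S, hS, heS, hsat⟩ := fg_saturation A B eH
  haveI : Module.Finite ℤ S := Module.Finite.iff_addGroup_fg.2 ((AddGroup.fg_iff_addSubgroup_fg S).2 hS)
  let f := Module.finBasis ℤ S
  let inst : ∀ x : HomAb A B, IsMonHom (x.toMul.1 : A ⟶ B) := fun x => x.toMul.2
  let τ : HomAb A B →+ (AbDual.TateMod A l T →ₗ[ℤ_[l]] AbDual.TateMod B l T) :=
    AddMonoidHom.mk' (fun x => letI := inst x; AbDual.tateMapₗ (l := l) (T := T) (x.toMul.1 : A ⟶ B))
      fun x y => LinearMap.ext fun X => AbDual.TateMod.ext fun m =>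
        congrArg Additive.ofMul (MonObj.comp_mul ((X : ℕ → Additive (T ⟶ A)) m).toMul (x.toMul.1 : A ⟶ B) y.toMul.1)
  have hf : LinearIndependent ℤ_[l] (fun i => τ (f i : HomAb A B)) := by
    rw [Fintype.linearIndependent_iff]
    -- each coefficient is divisible by `l`
    have hdvd : ∀ a : Fin (Module.finrank ℤ S) → ℤ_[l], ∑ i, a i • τ (f i : HomAb A B) = 0 →
        ∃ a' : Fin (Module.finrank ℤ S) → ℤ_[l], a = (l : ℤ_[l]) • a' := by
      intro a ha
      let c : Fin (Module.finrank ℤ S) → ℕ := fun i => (a i).appr 1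
      let x : S := ∑ i, c i • f i
      haveI : IsMonHom ((x : HomAb A B).toMul.1 : A ⟶ B) := inst x
      have hkill : ∀ P : T ⟶ A, P ^ (l ^ 1) = 1 → P ≫ ((x : HomAb A B).toMul.1 : A ⟶ B) = 1 := by
        intro P hP
        obtain ⟨X, hX⟩ := exists_tateSeq A l 1 P hP
        have h1 : AbDual.TateMod.component B l T 1 (τ (x : HomAb A B) X) = 0 := by
          simp only [x, AddSubgroup.val_finsetSum, AddSubgroup.coe_nsmul, map_sum, map_nsmul, LinearMap.sum_apply,
            LinearMap.smul_apply]
          have h2 := congrArg (AbDual.TateMod.component B l T 1) (LinearMap.congr_fun ha X)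
          simp only [LinearMap.sum_apply, LinearMap.smul_apply, map_sum, LinearMap.zero_apply, map_zero] at h2
          exact h2
        have h3 := congrArg Additive.toMul h1
        rw [show P = ((X : ℕ → Additive (T ⟶ A)) 1).toMul by rw [hX]; rfl]
        exact h3
      have hl1 : 1 ≤ l := (Fact.out : l.Prime).one_le
      haveI := AVDegLib.isMonHom_pow (A := A) l
      haveI := AVMulN.isFinite_pow (A := A) l hl1
      haveI := AVMulN.surjective_pow (A := A) l hl1
      haveI := etale_pow A hl
      obtain ⟨ρ, ⟨hρ, hρe⟩, -⟩ := exists_unique_factor_of_points (𝟙 A ^ l : A ⟶ A) ((x : HomAb A B).toMul.1 : A ⟶ B)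
        fun P hP => hkill P (by rwa [pow_one, ← Category.comp_id P, ← MonObj.comp_pow])
      let y : HomAb A B := Additive.ofMul ⟨ρ, hρ⟩
      have hy : l • y = (x : HomAb A B) := Additive.toMul.injective (Subtype.ext (by
        show ρ ^ l = _
        rw [← hρe, MonObj.pow_comp, Category.id_comp]))
      have hyS : y ∈ S := hsat y l (Fact.out : l.Prime).ne_zero (hy ▸ x.2)
      have hcoef : ∀ i, (l : ℤ) ∣ (c i : ℤ) := fun i => by
        have hx' : x = l • (⟨y, hyS⟩ : S) := Subtype.ext hy.symm
        have h := congrArg (fun s => f.repr s i) hx'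
        simp only [x, map_sum, map_nsmul, Finsupp.coe_finset_sum, Finset.sum_apply, f.repr_self, Finsupp.smul_apply,
          Finsupp.single_apply, smul_ite, smul_zero, Finset.sum_ite_eq', Finset.mem_univ, if_true,
          nsmul_eq_mul, _root_.mul_one] at h
        exact ⟨_, h⟩
      have : ∀ i, ∃ b : ℤ_[l], a i = (l : ℤ_[l]) * b := fun i => by
        have h0 : PadicInt.toZModPow 1 (a i) = 0 := by
          rw [AbDual.toZModPow_eq_appr, ZMod.natCast_eq_zero_iff, pow_one]
          exact Int.natCast_dvd_natCast.1 (hcoef i)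
        have h1 : a i ∈ RingHom.ker (PadicInt.toZModPow 1) := h0
        rwa [PadicInt.ker_toZModPow, pow_one, Ideal.mem_span_singleton] at h1
      choose b hb using this
      exact ⟨b, funext hb⟩
    intro a ha i
    have hpow : ∀ m : ℕ, ∃ a' : Fin (Module.finrank ℤ S) → ℤ_[l],
        a = ((l : ℤ_[l]) ^ m) • a' ∧ ∑ i, a' i • τ (f i : HomAb A B) = 0 := by
      intro m
      induction m with
      | zero => exact ⟨a, by rw [pow_zero, one_smul], ha⟩
      | succ m ih =>
        obtain ⟨a', rfl, ha'⟩ := ih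
        obtain ⟨a'', rfl⟩ := hdvd a' ha'
        refine ⟨a'', by rw [pow_succ, mul_smul], ?_⟩
        simp only [Pi.smul_apply, smul_eq_mul, mul_smul, ← Finset.smul_sum] at ha'
        exact LinearMap.ext fun X => by
          have h := LinearMap.congr_fun ha' X
          rw [LinearMap.smul_apply, LinearMap.zero_apply] at h
          obtain ⟨g, hg⟩ := exists_dim B
          obtain ⟨E⟩ := exists_tateEquiv (l := l) (A := B) (T := T) (r := 2 * g) (divisible B (Fact.out : l.Prime).one_le)
            (fun n => by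
              rw [pow_mul]
              exact card_torsPts B hg (N := l ^ n) (by rw [Nat.cast_pow]; exact pow_ne_zero _ hl))
          haveI : Module.IsTorsionFree ℤ_[l] (AbDual.TateMod B l T) :=
            E.symm.injective.moduleIsTorsionFree _ (fun r x => map_smul E.symm r x)
          exact (smul_eq_zero.1 h).resolve_left (by exact_mod_cast (Fact.out : l.Prime).ne_zero)
    by_contra hne
    obtain ⟨m, hm⟩ : ∃ m : ℕ, ¬ (l : ℤ_[l]) ^ m ∣ a i := by
      refine ⟨(a i).valuation + 1, fun hd => ?_⟩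
      have := (PadicInt.norm_le_pow_iff_mem_span_pow (a i) ((a i).valuation + 1)).2 (Ideal.mem_span_singleton.2 hd)
      rw [PadicInt.norm_eq_zpow_neg_valuation hne, zpow_le_zpow_iff_right₀ (by exact_mod_cast (Fact.out : l.Prime).one_lt)] at this
      omega
    obtain ⟨a', rfl, -⟩ := hpow m
    exact hm ⟨a' i, rfl⟩
  let v : Fin n → Fin (Module.finrank ℤ S) → ℤ := fun i => f.repr ⟨eH i, heS i⟩
  have hv : LinearIndependent ℤ v := Fintype.linearIndependent_iff.2 fun c hc => by
    have h1 : ∑ i, c i • (⟨eH i, heS i⟩ : S) = 0 := f.ext_elem fun j => by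
      have := congrFun hc j
      simpa [v] using this
    have h2 := congrArg (fun s : S => ((s : HomAb A B).toMul.1 : A ⟶ B)) h1
    refine Fintype.linearIndependent_iff.1 he c (Additive.toMul.injective (Eq.trans ?_ h2))
    simp [toMul_sum, eH]
  have hv' := linearIndependent_algebraMap_comp_iff (R := ℤ) (S := ℤ_[l]).2 hv
  have key := hv'.map' (Fintype.linearCombination ℤ_[l] fun j => τ (f j : HomAb A B))
    (LinearMap.ker_eq_bot.2 (linearIndependent_iff_injective_fintypeLinearCombination.1 hf))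
  have hkey : ∀ i, Fintype.linearCombination ℤ_[l] (fun j => τ (f j : HomAb A B)) (algebraMap ℤ ℤ_[l] ∘ v i) =
      AbDual.tateMapₗ (l := l) (T := T) (e i) := fun i => by
    rw [Fintype.linearCombination_apply]
    simp only [Function.comp_apply, algebraMap_int_eq, eq_intCast, Int.cast_smul_eq_zsmul, ← map_zsmul, ← map_sum]
    have : (∑ j, v i j • (f j : HomAb A B)) = eH i := by
      have := congrArg (Subtype.val : S → HomAb A B) (f.sum_repr ⟨eH i, heS i⟩)
      rw [AddSubgroup.val_finsetSum] at this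
      exact this
    rw [this]
    rfl
  rwa [show (fun i => AbDual.tateMapₗ (l := l) (T := T) (e i)) =
    Fintype.linearCombination ℤ_[l] (fun j => τ (f j : HomAb A B)) ∘ fun i => algebraMap ℤ ℤ_[l] ∘ v i from
      (funext hkey).symm]

section AnyField

variable {K : Type u} [Field K] {X Y : Over (Spec (CommRingCat.of K))} [GrpObj X] [GrpObj Y] [IsCommMonObj Y]

theorem isMonHom_mul (f g : X ⟶ Y) [IsMonHom f] [IsMonHom g] : IsMonHom (f * g) := by
  refine ⟨?_, ?_⟩
  · rw [MonObj.comp_mul, IsMonHom.one_hom, IsMonHom.one_hom, MonObj.one_eq_one, _root_.one_mul]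
  · have hμ : μ[X] = fst X X * snd X X := by rw [Hom.mul_def, lift_fst_snd, Category.id_comp]
    have hμ' : μ[Y] = fst Y Y * snd Y Y := by rw [Hom.mul_def, lift_fst_snd, Category.id_comp]
    rw [hμ, hμ', MonObj.comp_mul, MonObj.mul_comp, MonObj.mul_comp, MonObj.comp_mul, tensorHom_fst, tensorHom_snd,
      MonObj.comp_mul, MonObj.comp_mul, _root_.mul_mul_mul_comm]

theorem isMonHom_inv (f : X ⟶ Y) [IsMonHom f] : IsMonHom f⁻¹ := by
  refine ⟨?_, ?_⟩
  · rw [GrpObj.comp_inv, IsMonHom.one_hom, MonObj.one_eq_one, inv_one]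
  · have hμ : μ[X] = fst X X * snd X X := by rw [Hom.mul_def, lift_fst_snd, Category.id_comp]
    have hμ' : μ[Y] = fst Y Y * snd Y Y := by rw [Hom.mul_def, lift_fst_snd, Category.id_comp]
    rw [hμ, hμ', GrpObj.comp_inv, MonObj.mul_comp, MonObj.comp_mul, tensorHom_fst, tensorHom_snd,
      GrpObj.comp_inv, GrpObj.comp_inv, mul_inv]

end AnyField

end Groth.Agent.AbTors
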