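import Groth.Agent.AbTors.Tate
import Groth.Agent.S1843
import Groth.Agent.H23.RigidGamma

/-!
The structure of the torsion of an abelian variety over an algebraically closed field.
-/

set_option linter.style.haveILetI false
set_option linter.unusedSectionVars false
set_option backward.isDefEq.respectTransparency false
set_option backward.isDefEq.respectTransparency.types false
set_option maxHeartbeats 1000000

universe u

open CategoryTheory CategoryTheory.Limits MonoidalCategory CartesianMonoidalCategory MonObj AlgebraicGeometry TopologicalSpace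

namespace Groth.Agent.AbTors

section Abstract

variable {M : Type u} [AddCommGroup M]

theorem card_tors_mul {a b : ℕ} (hdiv : ∀ x : M, ∃ y, a • y = x) :
    Nat.card {x : M // (a * b) • x = 0} = Nat.card {x : M // a • x = 0} * Nat.card {x : M // b • x = 0} := by
  let Ka := (nsmulAddMonoidHom (α := M) a).ker
  let Kab := (nsmulAddMonoidHom (α := M) (a * b)).ker
  let Kb := (nsmulAddMonoidHom (α := M) b).ker
  let f : Kab →+ Kb :=
    { toFun := fun x => ⟨a • (x : M), by
        show b • (a • (x : M)) = 0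
        rw [← mul_nsmul]; exact x.2⟩
      map_zero' := Subtype.ext (smul_zero _)
      map_add' := fun x y => Subtype.ext (smul_add _ _ _) }
  have hf : Function.Surjective f := fun y => by
    obtain ⟨x, hx⟩ := hdiv y
    refine ⟨⟨x, ?_⟩, Subtype.ext hx⟩
    show (a * b) • x = 0
    rw [mul_nsmul, hx]; exact y.2
  let e : f.ker ≃ Ka :=
    { toFun := fun x => ⟨(x.1 : M), congrArg Subtype.val x.2⟩
      invFun := fun x => ⟨⟨(x : M), by show (a * b) • (x : M) = 0; rw [mul_nsmul, show a • (x : M) = 0 from x.2, smul_zero]⟩,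
        Subtype.ext x.2⟩
      left_inv := fun _ => rfl
      right_inv := fun _ => rfl }
  have h := AddSubgroup.card_eq_card_quotient_mul_card_addSubgroup f.ker
  rw [Nat.card_congr (QuotientAddGroup.quotientKerEquivOfSurjective f hf).toEquiv, Nat.card_congr e, mul_comm] at h
  exact h

theorem card_tors_pow {a : ℕ} (hdiv : ∀ x : M, ∃ y, a • y = x) :
    ∀ n, Nat.card {x : M // (a ^ n) • x = 0} = Nat.card {x : M // a • x = 0} ^ n
  | 0 => by
    rw [pow_zero, pow_zero]
    exact Nat.card_eq_one_iff_unique.2 ⟨⟨fun x y => Subtype.ext (by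
      have hx := x.2; have hy := y.2
      rw [one_nsmul] at hx hy
      rw [hx, hy])⟩, ⟨⟨0, smul_zero _⟩⟩⟩
  | n + 1 => by rw [pow_succ', card_tors_mul hdiv, card_tors_pow hdiv n, pow_succ']

/-- Divisible groups whose `n`-torsion has `n ^ r` elements for all admissible `n` have free torsion. -/
theorem exists_torsEquiv {r : ℕ} (n : ℕ) (hn : 0 < n)
    (hdiv : ∀ l, l.Prime → l ∣ n → ∀ x : M, ∃ y, l • y = x)
    (hcard : ∀ m, m ∣ n → Nat.card {x : M // m • x = 0} = m ^ r)
    (hpow : ∀ l, l.Prime → l ∣ n → ∀ i, Nat.card {x : M // (l ^ i) • x = 0} = l ^ (i * r)) :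
    Nonempty ((Fin r → ZMod n) ≃+ (nsmulAddMonoidHom (α := M) n).ker) := by
  have hgen : ∀ m, m ∣ n → ∃ y : Fin r → M, (∀ i, m • y i = 0) ∧
      ∀ z : M, m • z = 0 → ∃ c : Fin r → ℕ, ∑ i, c i • y i = z := by
    intro m
    induction m using Nat.recOnPrimeCoprime with
    | zero => intro h; exact absurd (Nat.eq_zero_of_zero_dvd h) hn.ne'
    | prime_pow p e hp =>
      intro h
      rcases Nat.eq_zero_or_pos e with rfl | he
      · exact ⟨0, fun i => smul_zero _, fun z hz => ⟨0, by rw [pow_zero, one_nsmul] at hz; simp [hz]⟩⟩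
      haveI : Fact p.Prime := ⟨hp⟩
      have hpn : p ∣ n := (dvd_pow_self p he.ne').trans h
      obtain ⟨x, -, htor, hg, -⟩ := exists_system (l := p) (r := r) (hdiv p hp hpn) (hpow p hp hpn)
      exact ⟨x e, htor e, hg e⟩
    | coprime a b ha hb hab iha ihb =>
      intro h
      obtain ⟨ya, hya, hga⟩ := iha ((Dvd.intro _ rfl).trans h)
      obtain ⟨yb, hyb, hgb⟩ := ihb ((Dvd.intro_left _ rfl).trans h)
      have hab' : ∀ {x : M}, a • x = 0 → (a * b) • x = 0 := fun hx => by rw [mul_nsmul, hx, smul_zero]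
      have hba' : ∀ {x : M}, b • x = 0 → (a * b) • x = 0 := fun hx => by rw [mul_comm, mul_nsmul, hx, smul_zero]
      refine ⟨fun i => ya i + yb i, fun i => by rw [smul_add, hab' (hya i), hba' (hyb i), add_zero], fun z hz => ?_⟩
      obtain ⟨u, hu1, hu2⟩ := Nat.chineseRemainder hab 1 0
      obtain ⟨v, hv1, hv2⟩ := Nat.chineseRemainder hab 0 1
      obtain ⟨ca, hca⟩ := hga (u • z) (by
        obtain ⟨q, hq⟩ := Nat.modEq_zero_iff_dvd.1 hu2
        rw [hq, ← mul_nsmul', show a * (b * q) = q * (a * b) by ring, mul_nsmul', hz, smul_zero])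
      obtain ⟨cb, hcb⟩ := hgb (v • z) (by
        obtain ⟨q, hq⟩ := Nat.modEq_zero_iff_dvd.1 hv1
        rw [hq, ← mul_nsmul', show b * (a * q) = q * (a * b) by ring, mul_nsmul', hz, smul_zero])
      refine ⟨fun i => ca i * u + cb i * v, ?_⟩
      have huv : u + v ≡ 1 [MOD a * b] := (Nat.modEq_and_modEq_iff_modEq_mul hab).1
        ⟨by simpa using hu1.add hv1, by simpa using hu2.add hv2⟩
      have e1 : ∀ i, u • (ya i + yb i) = ya i := fun i => by
        rw [smul_add, AbDual.nsmul_congr_of_modEq (hya i) hu1, AbDual.nsmul_congr_of_modEq (hyb i) hu2, one_nsmul, zero_nsmul,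
          add_zero]
      have e2 : ∀ i, v • (ya i + yb i) = yb i := fun i => by
        rw [smul_add, AbDual.nsmul_congr_of_modEq (hya i) hv1, AbDual.nsmul_congr_of_modEq (hyb i) hv2, one_nsmul, zero_nsmul,
          zero_add]
      simp only [add_nsmul, mul_nsmul', e1, e2, Finset.sum_add_distrib, hca, hcb]
      rw [← add_nsmul, AbDual.nsmul_congr_of_modEq hz huv, one_nsmul]
  obtain ⟨y, hy, hg⟩ := hgen n dvd_rfl
  haveI : NeZero n := ⟨hn.ne'⟩
  let f : (Fin r → ZMod n) →+ (nsmulAddMonoidHom (α := M) n).ker :=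
    { toFun := fun c => ⟨∑ i, (c i).val • y i, by
        rw [AddMonoidHom.mem_ker, nsmulAddMonoidHom_apply]
        rw [Finset.smul_sum]
        exact Finset.sum_eq_zero fun i _ => by rw [smul_comm, hy, smul_zero]⟩
      map_zero' := Subtype.ext (by simp)
      map_add' := fun c d => Subtype.ext (by
        show ∑ i : Fin r, ((c + d) i).val • y i = ∑ i : Fin r, (c i).val • y i + ∑ i : Fin r, (d i).val • y i
        rw [← Finset.sum_add_distrib]
        exact Finset.sum_congr rfl fun i _ => by
          rw [← add_nsmul, Pi.add_apply, ZMod.val_add, AbDual.mod_nsmul (hy i)]) }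
  have hsurj : Function.Surjective f := fun z => by
    obtain ⟨c, hc⟩ := hg z z.2
    refine ⟨fun i => (c i : ZMod n), Subtype.ext (Eq.trans ?_ hc)⟩
    show ∑ i, ((c i : ZMod n)).val • y i = _
    refine Finset.sum_congr rfl fun i _ => ?_
    rw [ZMod.val_natCast, AbDual.mod_nsmul (hy i)]
  haveI : Finite (nsmulAddMonoidHom (α := M) n).ker := Finite.of_surjective f hsurj
  exact ⟨AddEquiv.ofBijective f (hsurj.bijective_of_nat_card_le (by
    rw [Nat.card_fun, Nat.card_zmod, Nat.card_eq_fintype_card, Fintype.card_fin]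
    exact (hcard n dvd_rfl).ge))⟩

end Abstract

variable {k : Type u} [Field k] [IsAlgClosed k]

local notation "𝐩" => 𝟙_ (Over (Spec (CommRingCat.of k)))

theorem geometricallyIntegral_of_smooth (A : Over (Spec (CommRingCat.of k))) [GrpObj A] [IsProper A.hom] [Smooth A.hom]
    [GeometricallyConnected A.hom] : GeometricallyIntegral A.hom := by
  haveI : GeometricallyReduced A.hom := Groth.Agent.H23.RigidGamma.geometricallyReduced_of_smooth A.hom
  haveI : ConnectedSpace A.left := GeometricallyConnected.connectedSpace_of_subsingleton A.hom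
  exact Groth.Agent.H23.MaxAbelian.geometricallyIntegral_of_connected A

variable (A : Over (Spec (CommRingCat.of k))) [GrpObj A] [IsCommMonObj A] [IsProper A.hom] [GeometricallyIntegral A.hom]

theorem divisible {n : ℕ} (hn : 1 ≤ n) (x : Additive (𝐩 ⟶ A)) : ∃ y, n • y = x :=
  ⟨Additive.ofMul (exists_root A hn x.toMul).choose, congrArg Additive.ofMul (exists_root A hn x.toMul).choose_spec⟩

theorem nonempty_torsEquiv {g : ℕ} (hg : topologicalKrullDim A.left = g) {n : ℕ} (hn : (n : k) ≠ 0) :
    Nonempty (AbDual.torsPts A n 𝐩 ≃* Multiplicative (Fin (2 * g) → ZMod n)) := by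
  have hn0 : 0 < n := Nat.pos_of_ne_zero fun h => hn (by rw [h, Nat.cast_zero])
  have hdvd : ∀ m, m ∣ n → (m : k) ≠ 0 := fun m ⟨q, hq⟩ h => hn (by rw [hq, Nat.cast_mul, h, zero_mul])
  obtain ⟨e⟩ := exists_torsEquiv (M := Additive (𝐩 ⟶ A)) (r := 2 * g) n hn0 (fun l hl _ => divisible A hl.one_le)
    (fun m hm => card_torsPts A hg (hdvd m hm))
    (fun l _ hl i => by
      rw [pow_mul]
      exact card_torsPts A hg (by rw [Nat.cast_pow]; exact pow_ne_zero _ (hdvd l hl)))
  exact ⟨{ toFun := fun x => Multiplicative.ofAdd (e.symm ⟨Additive.ofMul x.1, congrArg Additive.ofMul x.2⟩)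
           invFun := fun c => ⟨(e c.toAdd).1.toMul, congrArg Additive.toMul (e c.toAdd).2⟩
           left_inv := fun x => Subtype.ext (by simp)
           right_inv := fun c => by simp
           map_mul' := fun x y => by rw [← ofAdd_add, ← map_add]; rfl }⟩

/-- In characteristic `p` the `p`-torsion has `p ^ i` points with `i` at most the dimension. -/
theorem exists_pRank {g : ℕ} (hg : topologicalKrullDim A.left = g) (p : ℕ) [Fact p.Prime] [CharP k p] :
    ∃ i ≤ g, ∀ m, Nat.card {x : Additive (𝐩 ⟶ A) // (p ^ m) • x = 0} = p ^ (m * i) := by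
  have hp : p.Prime := Fact.out
  let K := (nsmulAddMonoidHom (α := Additive (𝐩 ⟶ A)) p).ker
  let S := {a : A.left | (𝟙 A ^ p : A ⟶ A).left a = η[A].left (IsLocalRing.closedPoint k)}
  have hle := S1843.result k p A g hg
  have hS : S.Finite := Set.finite_of_encard_le_coe hle
  haveI : Finite S := hS.to_subtype
  let f : K → S := fun x => ⟨x.1.toMul.left (IsLocalRing.closedPoint k), by
    show (𝟙 A ^ p : A ⟶ A).left (x.1.toMul.left _) = _
    rw [← Scheme.Hom.comp_apply, ← Over.comp_left, MonObj.comp_pow, Category.comp_id,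
      show x.1.toMul ^ p = 1 from congrArg Additive.toMul x.2, MonObj.one_eq_one]⟩
  have hf : Function.Injective f := fun x y h => Subtype.ext (congrArg Additive.ofMul (point_ext (congrArg Subtype.val h)))
  haveI : Finite K := Finite.of_injective f hf
  have hKle : Nat.card K ≤ p ^ g := (Nat.card_le_card_of_injective f hf).trans (by
    rw [Nat.card_coe_set_eq]
    have h : S.encard ≤ ((p ^ g : ℕ) : ℕ∞) := hle
    rw [← hS.cast_ncard_eq] at h
    exact_mod_cast h)
  have hK : IsPGroup p (Multiplicative K) := fun x => ⟨1, by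
    rw [pow_one]
    exact congrArg Multiplicative.ofAdd (Subtype.ext (x.toAdd.2) : p • x.toAdd = 0)⟩
  obtain ⟨i, hi⟩ := IsPGroup.iff_card.1 hK
  have hi' : Nat.card K = p ^ i := hi
  refine ⟨i, (Nat.pow_le_pow_iff_right hp.one_lt).1 (hi' ▸ hKle), fun m => ?_⟩
  rw [card_tors_pow (divisible A hp.one_le), mul_comm, pow_mul]
  exact congrArg (· ^ m) hi'

theorem card_torsPts_dvd {g : ℕ} (hg : topologicalKrullDim A.left = g) :
    ∀ n, 0 < n → Nat.card (AbDual.torsPts A n 𝐩) ∣ n ^ (2 * g) ∧
      ((n : k) = 0 → 0 < g → Nat.card (AbDual.torsPts A n 𝐩) < n ^ (2 * g)) := by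
  intro n
  induction n using Nat.recOnMul with
  | zero => intro h; exact absurd h (lt_irrefl _)
  | one =>
    intro _
    rw [card_torsPts A hg (by simp), one_pow]
    exact ⟨dvd_rfl, fun h => absurd h (by simp)⟩
  | prime p hp =>
    intro _
    by_cases hpk : (p : k) = 0
    · haveI : Fact p.Prime := ⟨hp⟩
      haveI : CharP k p := by
        obtain ⟨q, hq⟩ := CharP.exists k
        have := (CharP.cast_eq_zero_iff k q p).1 hpk
        rcases (Nat.dvd_prime hp).1 this with rfl | rfl
        · exact absurd ((CharP.cast_eq_zero_iff k 1 1).2 dvd_rfl) (by rw [Nat.cast_one]; exact one_ne_zero)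
        · exact hq
      obtain ⟨i, hi, hc⟩ := exists_pRank A hg p
      have h : Nat.card (AbDual.torsPts A p 𝐩) = p ^ i := by
        have := hc 1
        rw [pow_one, _root_.one_mul] at this
        exact this
      rw [h]
      exact ⟨pow_dvd_pow p (by omega), fun _ hg0 => Nat.pow_lt_pow_right hp.one_lt (by omega)⟩
    · rw [card_torsPts A hg hpk]
      exact ⟨dvd_rfl, fun h => absurd h hpk⟩
  | mul a b iha ihb =>
    intro hab
    obtain ⟨ha, hb⟩ : 0 < a ∧ 0 < b := ⟨Nat.pos_of_ne_zero fun h => by simp [h] at hab, Nat.pos_of_ne_zero fun h => by simp [h] at hab⟩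
    have h : Nat.card (AbDual.torsPts A (a * b) 𝐩) = _ := card_tors_mul (M := Additive (𝐩 ⟶ A)) (b := b) (divisible A ha)
    rw [h, mul_pow]
    obtain ⟨da, la⟩ := iha ha
    obtain ⟨db, lb⟩ := ihb hb
    refine ⟨mul_dvd_mul da db, fun h0 hg0 => ?_⟩
    have hle : ∀ {c d : ℕ}, c ∣ d → 0 < d → c ≤ d ∧ 0 < c := fun h hd => ⟨Nat.le_of_dvd hd h, Nat.pos_of_dvd_of_pos h hd⟩
    obtain ⟨xa, ya⟩ := hle da (pow_pos ha _)
    obtain ⟨xb, yb⟩ := hle db (pow_pos hb _)
    rw [Nat.cast_mul, mul_eq_zero] at h0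
    rcases h0 with h0 | h0
    · exact Nat.mul_lt_mul_of_lt_of_le (la h0 hg0) xb (pow_pos hb _)
    · exact Nat.mul_lt_mul_of_le_of_lt xa (lb h0 hg0) (pow_pos ha _)

end Groth.Agent.AbTors
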