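import Groth.Agent.AVDegLib.MulN
import Groth.Agent.H23.MulEtale
import Groth.Prelude.Def_AbDual
import Mathlib.AlgebraicGeometry.AlgClosed.Basic
import Mathlib.RingTheory.Etale.Field

/-!
The number of points in the fibre of a finite étale morphism over a point, over an algebraically closed field.
-/

set_option linter.style.haveILetI false
set_option linter.unusedSectionVars false
set_option backward.isDefEq.respectTransparency false
set_option backward.isDefEq.respectTransparency.types false
set_option maxHeartbeats 1000000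

universe u

open CategoryTheory CategoryTheory.Limits MonoidalCategory CartesianMonoidalCategory MonObj AlgebraicGeometry

namespace Groth.Agent.AbTors

variable {k : Type u} [Field k] [IsAlgClosed k]

theorem card_carrier {N : Scheme.{u}} (q : N ⟶ Spec (CommRingCat.of k)) [IsFinite q] [Etale q] (y : Spec (CommRingCat.of k)) :
    Nat.card N = Scheme.Hom.finrank q y := by
  haveI : IsAffine N := isAffine_of_isAffineHom q
  obtain ⟨φ, hφ⟩ := Spec.map_surjective (N.isoSpec.inv ≫ q)
  let C := Γ(N, ⊤)
  letI : Algebra k C := φ.hom.toAlgebra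
  have h1 : IsFinite (Spec.map φ) := by rw [hφ]; infer_instance
  have h2 : Etale (Spec.map φ) := by rw [hφ]; infer_instance
  haveI : Module.Finite k C := by rw [IsFinite.SpecMap_iff] at h1; exact h1
  haveI : Algebra.Etale k C := by
    rw [HasRingHomProperty.Spec_iff (P := @Etale)] at h2; exact h2
  let e := Algebra.FormallyEtale.equivPiOfIsSepClosed k C
  haveI : IsArtinianRing C := IsArtinianRing.of_finite k C
  haveI : Fintype (PrimeSpectrum C) := Fintype.ofFinite _
  rw [Nat.card_congr N.isoSpec.schemeIsoToHomeo.toEquiv, ← Scheme.Hom.finrank_comp_left_of_isIso N.isoSpec.inv q, ← hφ]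
  change Nat.card (PrimeSpectrum C) = Scheme.Hom.finrank (Spec.map (CommRingCat.ofHom (algebraMap k C))) y
  rw [Scheme.Hom.finrank_SpecMap_algebraMap, Module.rankAtStalk_eq_finrank_of_free, Pi.natCast_apply,
    e.toLinearEquiv.finrank_eq, Module.finrank_pi, Nat.card_eq_fintype_card]
  rfl

variable {X Y : Over (Spec (CommRingCat.of k))}

/-- The `k`-points over a `k`-point of a finite étale morphism. -/
theorem card_fibre (φ : X ⟶ Y) [IsFinite φ.left] [Etale φ.left] (b : 𝟙_ (Over (Spec (CommRingCat.of k))) ⟶ Y) :
    Nat.card {P : 𝟙_ (Over (Spec (CommRingCat.of k))) ⟶ X // P ≫ φ = b} =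
      Scheme.Hom.finrank φ.left (b.left (IsLocalRing.closedPoint k)) := by
  let bl : Spec (CommRingCat.of k) ⟶ Y.left := b.left
  let q := pullback.fst bl φ.left
  haveI : IsFinite q := MorphismProperty.pullback_fst (P := @IsFinite) _ _ inferInstance
  haveI : Etale q := MorphismProperty.pullback_fst (P := @Etale) _ _ inferInstance
  have hN := card_carrier q (IsLocalRing.closedPoint k)
  rw [Scheme.Hom.finrank_pullback_fst] at hN
  refine Eq.trans ?_ hN
  have hcl : closedPoints (pullback bl φ.left : Scheme.{u}) = Set.univ := Set.eq_univ_of_forall fun z => by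
    haveI : JacobsonSpace (pullback bl φ.left : Scheme.{u}) := LocallyOfFiniteType.jacobsonSpace q
    haveI : Finite (pullback bl φ.left : Scheme.{u}) := Set.finite_univ_iff.1
      ((IsFinite.finite_preimage_singleton q (IsLocalRing.closedPoint k)).subset fun z _ =>
        Subsingleton.elim (α := PrimeSpectrum k) _ _)
    exact isClosed_discrete _
  rw [← Nat.card_congr ((pointEquivClosedPoint q).trans ((Equiv.setCongr hcl).trans (Equiv.Set.univ _)))]
  have hbw : b.left ≫ Y.hom = 𝟙 _ := Over.w b
  refine Nat.card_congr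
    { toFun := fun P => ⟨pullback.lift (𝟙 _) P.1.left (by
        rw [Category.id_comp, ← Over.comp_left, P.2]), pullback.lift_fst _ _ _⟩
      invFun := fun t => ⟨Over.homMk (t.1 ≫ pullback.snd _ _) (by
          rw [Category.assoc, ← Over.w φ, ← pullback.condition_assoc, hbw]
          exact (congrArg _ (Category.comp_id _)).trans t.2), by
        ext1
        show (t.1 ≫ pullback.snd _ _) ≫ φ.left = bl
        rw [Category.assoc, ← pullback.condition, ← Category.assoc, t.2, Category.id_comp]⟩
      left_inv := fun P => by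
        ext : 2
        exact pullback.lift_snd _ _ _
      right_inv := fun t => by
        ext : 1
        apply pullback.hom_ext
        · rw [pullback.lift_fst, t.2]
        · rw [pullback.lift_snd]; rfl }

variable (A : Over (Spec (CommRingCat.of k))) [GrpObj A] [IsProper A.hom] [GeometricallyIntegral A.hom]

theorem etale_pow {n : ℕ} (hn : (n : k) ≠ 0) : Etale (𝟙 A ^ n : A ⟶ A).left := by
  haveI : LocallyOfFinitePresentation A.hom := by infer_instance
  haveI : GeometricallyConnected A.hom := Groth.Agent.H23.CubeAb.geometricallyConnected_of_integral A.hom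
  refine Groth.Agent.H23.MulEtale.etale_pow n ?_
  have := (isUnit_iff_ne_zero.2 hn).map (Scheme.ΓSpecIso (CommRingCat.of k)).inv.hom
  rwa [map_natCast] at this

theorem card_torsPts [IsCommMonObj A] {g : ℕ} (hg : topologicalKrullDim A.left = g) {N : ℕ} (hN : (N : k) ≠ 0) :
    Nat.card (AbDual.torsPts A N (𝟙_ (Over (Spec (CommRingCat.of k))))) = N ^ (2 * g) := by
  have hN1 : 1 ≤ N := Nat.one_le_iff_ne_zero.2 fun h => hN (by rw [h, Nat.cast_zero])
  haveI := AVMulN.isFinite_pow (A := A) N hN1
  haveI := etale_pow A hN
  have e : ∀ P : 𝟙_ (Over (Spec (CommRingCat.of k))) ⟶ A, P ∈ AbDual.torsPts A N (𝟙_ _) ↔ P ≫ (𝟙 A ^ N) = 1 := fun P => by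
    rw [AbDual.mem_torsPts, MonObj.comp_pow, Category.comp_id]
  rw [Nat.card_congr ((Equiv.subtypeEquivRight e)), card_fibre (𝟙 A ^ N : A ⟶ A) 1]
  have h := AVDegLib.finrank_zpow (A := A) hg (N : ℤ) (by omega) ((1 : 𝟙_ (Over (Spec (CommRingCat.of k))) ⟶ A).left (IsLocalRing.closedPoint k))
  simpa using h

end Groth.Agent.AbTors
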