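import Groth.Agent.AbTors.Torsion
import Mathlib.AlgebraicGeometry.Sites.Fpqc
import Mathlib.CategoryTheory.MorphismProperty.Limits

/-!
A homomorphism killing the kernel of a flat surjective homomorphism factors through it; for an étale
isogeny over an algebraically closed field it is enough to kill the `k`-points of the kernel.
-/

set_option linter.style.haveILetI false
set_option linter.unusedSectionVars false
set_option backward.isDefEq.respectTransparency false
set_option backward.isDefEq.respectTransparency.types false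
set_option maxHeartbeats 1000000

universe u

open CategoryTheory CategoryTheory.Limits MonoidalCategory CartesianMonoidalCategory MonObj AlgebraicGeometry TopologicalSpace

namespace Groth.Agent.AbTors

section Base

variable {S : Scheme.{u}} {X Y Z : Over S} (ψ : X ⟶ Y)

theorem exists_unique_factor [GrpObj X] [GrpObj Y] [GrpObj Z] [IsMonHom ψ] [Flat ψ.left] [Surjective ψ.left]
    [QuasiCompact ψ.left] (φ : X ⟶ Z) [IsMonHom φ] (h : ∀ (T : Over S) (x : T ⟶ X), x ≫ ψ = 1 → x ≫ φ = 1) :
    ∃! ρ : Y ⟶ Z, IsMonHom ρ ∧ ψ ≫ ρ = φ := by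
  have hker : ∀ {W : Scheme.{u}} (a b : W ⟶ X.left), a ≫ ψ.left = b ≫ ψ.left → a ≫ φ.left = b ≫ φ.left := by
    intro W a b hab
    let T : Over S := Over.mk (a ≫ X.hom)
    let a' : T ⟶ X := Over.homMk a rfl
    let b' : T ⟶ X := Over.homMk b (by
      show b ≫ X.hom = a ≫ X.hom
      rw [← Over.w ψ, reassoc_of% hab])
    have he : a' ≫ ψ = b' ≫ ψ := Over.OverMorphism.ext hab
    have h1 := h T (a'⁻¹ * b') (by rw [MonObj.mul_comp, GrpObj.inv_comp, he, inv_mul_cancel])
    rw [MonObj.mul_comp, GrpObj.inv_comp, inv_mul_eq_one] at h1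
    exact congrArg (fun f : T ⟶ Z => f.left) h1
  let r := EffectiveEpi.desc ψ.left φ.left hker
  have hr : ψ.left ≫ r = φ.left := EffectiveEpi.fac ψ.left φ.left hker
  let ρ : Y ⟶ Z := Over.homMk r (by
    rw [← cancel_epi ψ.left, reassoc_of% hr, Over.w, Over.w])
  have hρ : ψ ≫ ρ = φ := Over.OverMorphism.ext hr
  let P : MorphismProperty Scheme.{u} := @Flat ⊓ @Surjective ⊓ @QuasiCompact
  have hP : P ψ.left := ⟨⟨‹_›, ‹_›⟩, ‹_›⟩
  obtain ⟨⟨_, _⟩, _⟩ : P (ψ ⊗ₘ ψ).left := by
    rw [Over.tensorHom_left]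
    exact MorphismProperty.pullbackMap hP hP (Over.w ψ).symm (Over.w ψ).symm
  haveI : Epi ψ := (Over.forget S).epi_of_epi_map (inferInstanceAs (Epi ψ.left))
  haveI : Epi (ψ ⊗ₘ ψ) := (Over.forget S).epi_of_epi_map (inferInstanceAs (Epi (ψ ⊗ₘ ψ).left))
  refine ⟨ρ, ⟨⟨?_, ?_⟩, hρ⟩, fun ρ' hρ' => (cancel_epi ψ).1 (hρ'.2.trans hρ.symm)⟩
  · rw [← IsMonHom.one_hom ψ, Category.assoc, hρ, IsMonHom.one_hom φ]
  · rw [← cancel_epi (ψ ⊗ₘ ψ), ← Category.assoc, ← IsMonHom.mul_hom ψ, Category.assoc, hρ, IsMonHom.mul_hom φ,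
      tensorHom_comp_tensorHom_assoc, hρ]

end Base

variable {k : Type u} [Field k] [IsAlgClosed k]

local notation "𝐩" => 𝟙_ (Over (Spec (CommRingCat.of k)))

/-- For a finite étale homomorphism it is enough to kill the `k`-points of the kernel. -/
theorem exists_unique_factor_of_points {X Y Z : Over (Spec (CommRingCat.of k))} [GrpObj X] [GrpObj Y] [GrpObj Z]
    [IsProper Y.hom] [IsSeparated Z.hom] (ψ : X ⟶ Y) [IsMonHom ψ] [IsFinite ψ.left] [Etale ψ.left]
    [Surjective ψ.left] (φ : X ⟶ Z) [IsMonHom φ] (h : ∀ P : 𝐩 ⟶ X, P ≫ ψ = 1 → P ≫ φ = 1) :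
    ∃! ρ : Y ⟶ Z, IsMonHom ρ ∧ ψ ≫ ρ = φ := by
  refine exists_unique_factor ψ φ fun T x hx => ?_
  let e : 𝐩 ⟶ Y := η[Y]
  let el : Spec (CommRingCat.of k) ⟶ Y.left := e.left
  let K := pullback ψ.left el
  let q := pullback.snd ψ.left el
  haveI : Etale q := MorphismProperty.pullback_snd (P := @Etale) _ _ inferInstance
  haveI : IsFinite q := MorphismProperty.pullback_snd (P := @IsFinite) _ _ inferInstance
  haveI : GeometricallyReduced q := Groth.Agent.H23.RigidGamma.geometricallyReduced_of_smooth q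
  haveI : IsLocallyNoetherian K := LocallyOfFiniteType.isLocallyNoetherian q
  haveI : IsReduced K := GeometricallyReduced.isReduced_of_flat_of_isLocallyNoetherian q
  haveI : JacobsonSpace K := LocallyOfFiniteType.jacobsonSpace q
  haveI : Finite K := Set.finite_univ_iff.1
    ((Scheme.Hom.finite_preimage_singleton q (IsLocalRing.closedPoint k)).subset fun z _ =>
      Subsingleton.elim (α := PrimeSpectrum k) _ _)
  let KO : Over (Spec (CommRingCat.of k)) := Over.mk q
  haveI : IsReduced KO.left := ‹IsReduced K›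
  have hKhom : pullback.fst ψ.left el ≫ X.hom = q := by
    rw [← Over.w ψ, pullback.condition_assoc]
    exact (congrArg _ (Over.w e)).trans (Category.comp_id _)
  let inc : KO ⟶ X := Over.homMk (pullback.fst ψ.left el) hKhom
  have hinc : inc ≫ φ = 1 := by
    haveI : IsClosedImmersion η[Z].left := by
      haveI : IsClosedImmersion (η[Z].left ≫ Z.hom) := by
        rw [Over.w η[Z]]; exact inferInstanceAs (IsClosedImmersion (𝟙 (Spec (CommRingCat.of k))))
      exact IsClosedImmersion.of_comp η[Z].left Z.hom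
    obtain ⟨g, hg⟩ := Groth.Agent.H23.RedSub.exists_lift_closed (inc ≫ φ).left η[Z].left (by
      rintro _ ⟨z, rfl⟩
      have hz : IsClosed ({z} : Set K) := isClosed_discrete _
      let P0 := pointOfClosedPoint q z hz
      let P : 𝐩 ⟶ KO := Over.homMk P0 (pointOfClosedPoint_comp _ _ _)
      have hP : (P ≫ inc) ≫ ψ = 1 := by
        refine Over.OverMorphism.ext ?_
        show (P0 ≫ pullback.fst ψ.left el) ≫ ψ.left = _
        rw [Category.assoc, pullback.condition, ← Category.assoc, pointOfClosedPoint_comp, Category.id_comp]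
        exact congrArg (fun f : 𝐩 ⟶ Y => f.left) (MonObj.one_eq_one (M := Y))
      refine ⟨IsLocalRing.closedPoint k, ?_⟩
      have h1 := congrArg (fun f : 𝐩 ⟶ Z => f.left (IsLocalRing.closedPoint k)) (h _ hP)
      rw [← MonObj.one_eq_one] at h1
      refine h1.symm.trans ?_
      show (inc ≫ φ).left (pointOfClosedPoint q z hz _) = _
      rw [pointOfClosedPoint_apply])
    let g' : KO ⟶ 𝐩 := Over.homMk g (by
      rw [← Over.w η[Z], reassoc_of% hg, Over.w])
    rw [← show g' ≫ η[Z] = inc ≫ φ from Over.OverMorphism.ext hg, MonObj.one_eq_one, MonObj.comp_one]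
  have hx' : x.left ≫ ψ.left = T.hom ≫ el := by
    rw [← Over.comp_left, hx]
    rfl
  let x' : T ⟶ KO := Over.homMk (pullback.lift x.left T.hom hx') (pullback.lift_snd _ _ _)
  rw [show x = x' ≫ inc from Over.OverMorphism.ext (pullback.lift_fst _ _ hx').symm, Category.assoc, hinc, MonObj.comp_one]

/-- Every `l ^ n`-torsion point is the `n`-th component of an element of the Tate module. -/
theorem exists_tateSeq (A : Over (Spec (CommRingCat.of k))) [GrpObj A] [IsCommMonObj A] [IsProper A.hom]
    [GeometricallyIntegral A.hom] (l : ℕ) [Fact l.Prime] (n : ℕ)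
    (P : Over.mk (𝟙 (Spec (CommRingCat.of k))) ⟶ A) (hP : P ^ (l ^ n) = 1) :
    ∃ X : AbDual.TateMod A l (Over.mk (𝟙 (Spec (CommRingCat.of k)))),
      (X : ℕ → Additive (Over.mk (𝟙 (Spec (CommRingCat.of k))) ⟶ A)) n = Additive.ofMul P := by
  let T : Over (Spec (CommRingCat.of k)) := Over.mk (𝟙 (Spec (CommRingCat.of k)))
  have hroot : ∀ x : T ⟶ A, ∃ y : T ⟶ A, y ^ l = x := fun x =>
    exists_root A (Fact.out : l.Prime).one_le x
  choose d hd using hroot
  let x : ℕ → (T ⟶ A) := fun m => if m ≤ n then P ^ (l ^ (n - m)) else d^[m - n] P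
  have hx0 : x 0 = 1 := by simp only [x, Nat.zero_le, if_true, Nat.sub_zero]; exact hP
  have hstep : ∀ m, x (m + 1) ^ l = x m := by
    intro m
    rcases lt_trichotomy m n with h1 | rfl | h1
    · simp only [x, if_pos (Nat.succ_le_of_lt h1), if_pos h1.le]
      rw [← pow_mul, ← pow_succ, show n - (m + 1) + 1 = n - m by omega]
    · simp only [x, if_neg (Nat.not_succ_le_self m), le_refl, if_true, Nat.sub_self, pow_zero, pow_one,
        Nat.add_sub_cancel_left, Function.iterate_one]
      exact hd _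
    · simp only [x, if_neg (not_le.2 h1), if_neg (not_le.2 (h1.trans (Nat.lt_succ_self m))),
        show m + 1 - n = (m - n) + 1 by omega, Function.iterate_succ_apply']
      exact hd _
  have htor : ∀ m, x m ^ (l ^ m) = 1 := by
    intro m
    induction m with
    | zero => rw [pow_zero, pow_one]; exact hx0
    | succ m ih => rw [pow_succ', pow_mul, hstep, ih]
  refine ⟨⟨fun m => Additive.ofMul (x m), fun m => congrArg Additive.ofMul (htor m),
    fun m => congrArg Additive.ofMul (hstep m)⟩, congrArg Additive.ofMul ?_⟩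
  simp only [x, le_refl, if_true, Nat.sub_self, pow_zero, pow_one]

end Groth.Agent.AbTors
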