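import Groth.Agent.AbTors.Points
import Groth.Agent.H23.MaxAbelian
import Groth.Agent.H23.Isogeny
import Groth.Agent.GrpSchLib.IdentityComp
import Groth.Agent.GrpSchLib.KernelGrp
import Groth.Agent.GrpSchLib.FieldReduced
import Groth.Agent.GrpSchLib.GeomIrr

/-!
The largest abelian subvariety inside the kernel of a homomorphism of abelian varieties, and the
injectivity of `φ ↦ T_l(φ)` over an algebraically closed field.
-/

set_option linter.style.haveILetI false
set_option linter.unusedSectionVars false
set_option backward.isDefEq.respectTransparency false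
set_option backward.isDefEq.respectTransparency.types false
set_option maxHeartbeats 1000000

universe u

open CategoryTheory CategoryTheory.Limits MonoidalCategory CartesianMonoidalCategory MonObj AlgebraicGeometry TopologicalSpace

namespace Groth.Agent.AbTors

open Groth.Agent.H23

variable {k : Type u} [Field k] [IsAlgClosed k]

/-- The reduced identity component of a proper group scheme is an abelian subvariety. -/
theorem exists_redComponent (G : Over (Spec (CommRingCat.of k))) [GrpObj G] [IsProper G.hom] :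
    ∃ (N : Over (Spec (CommRingCat.of k))) (_ : GrpObj N) (j : N ⟶ G), IsMonHom j ∧
      IsClosedImmersion j.left ∧ IsProper N.hom ∧ GeometricallyIntegral N.hom ∧
      Set.range j.left = connectedComponent (η[G].left (IsLocalRing.closedPoint k)) := by
  obtain ⟨G₀, _, i, hi, hci, -, hr, hirr, -⟩ := GrpSchLib.exists_identityComponent (G := G)
  let R := (Scheme.IdealSheafData.vanishingIdeal (⊤ : Closeds G₀.left))
  let P : Over (Spec (CommRingCat.of k)) := Over.mk (R.subschemeι ≫ G₀.hom)
  let h : P ⟶ G₀ := Over.homMk R.subschemeι rfl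
  have hsurj : Surjective h.left := ⟨fun x => by
    have : x ∈ Set.range R.subschemeι := by rw [RedSub.range_vanishingIdeal]; trivial
    exact this⟩
  haveI : IsClosedImmersion h.left := inferInstanceAs (IsClosedImmersion R.subschemeι)
  haveI : IsReduced P.left := RedSub.isReduced_vanishingIdeal _
  haveI : IsProper G₀.hom := by rw [← Over.w i]; infer_instance
  haveI : IsProper P.hom := inferInstanceAs (IsProper (R.subschemeι ≫ G₀.hom))
  haveI : IrreducibleSpace P.left := by
    haveI : IrreducibleSpace G₀.left := GeometricallyIrreducible.irreducibleSpace_of_subsingleton G₀.hom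
    let e := h.left.isClosedEmbedding.toIsEmbedding.toHomeomorphOfSurjective hsurj.surj
    exact e.irreducibleSpace_iff.mpr inferInstance
  haveI : GeometricallyIrreducible P.hom := GrpSchLib.geometricallyIrreducible_of_isAlgClosed P.hom
  haveI : GeometricallyReduced P.hom :=
    ⟨geometrically_iff_of_isClosedUnderIsomorphisms.mpr fun L _ x => by
      haveI : IsReduced (Spec (CommRingCat.of L)) := inferInstance
      exact GrpSchLib.isReduced_pullback_of_perfectField P.hom x⟩
  haveI : GeometricallyIntegral P.hom :=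
    GeometricallyIntegral.of_geometricallyReduced_of_geometricallyIrreducible _
  have hrange : Set.range (h ≫ i).left = Set.range i.left := by
    rw [Over.comp_left, Scheme.Hom.comp_base, TopCat.coe_comp, Set.range_comp, hsurj.surj.range_eq, Set.image_univ]
  obtain ⟨N, _, j, hj, hjc, hN, hN', hjr⟩ := MaxAbelian.exists_image' (h ≫ i)
    (by
      rw [hrange, ← IsMonHom.one_hom i, Over.comp_left, Scheme.Hom.comp_base, TopCat.coe_comp]
      exact Set.range_comp_subset_range _ _)
    (by
      rw [hrange, show (fst P P ≫ h ≫ i) * (snd P P ≫ h ≫ i) = ((fst P P ≫ h) * (snd P P ≫ h)) ≫ i by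
        rw [MonObj.mul_comp, Category.assoc, Category.assoc], Over.comp_left, Scheme.Hom.comp_base, TopCat.coe_comp]
      exact Set.range_comp_subset_range _ _)
    (by
      rw [hrange, ← GrpObj.inv_comp, Over.comp_left, Scheme.Hom.comp_base, TopCat.coe_comp]
      exact Set.range_comp_subset_range _ _)
  exact ⟨N, ‹_›, j, hj, hjc, hN, hN', hjr.trans (hrange.trans hr)⟩

variable {A B : Over (Spec (CommRingCat.of k))} [GrpObj A] [IsProper A.hom] [GeometricallyIntegral A.hom]
  [GrpObj B] [IsProper B.hom]

local notation "𝐩" => 𝟙_ (Over (Spec (CommRingCat.of k)))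

/-- An abelian subvariety killed by `φ` through which the torsion of the kernel factors, up to a bounded index. -/
theorem exists_kerSub (φ : A ⟶ B) [IsMonHom φ] :
    ∃ (N : Over (Spec (CommRingCat.of k))) (_ : GrpObj N) (j : N ⟶ A), IsMonHom j ∧
      IsClosedImmersion j.left ∧ IsProper N.hom ∧ GeometricallyIntegral N.hom ∧ j ≫ φ = 1 ∧
      ∃ m : ℕ, ∀ n : ℕ, Set.Finite {Q : 𝐩 ⟶ N | Q ^ n = 1} →
        Nat.card {P : 𝐩 ⟶ A // P ≫ φ = 1 ∧ P ^ n = 1} ≤ m * Nat.card {Q : 𝐩 ⟶ N // Q ^ n = 1} := by
  haveI : IsSeparated B.hom := inferInstance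
  obtain ⟨K, _, i, hi, hic, -, hker⟩ := GrpSchLib.exists_kernel φ
  haveI : IsProper K.hom := by rw [← Over.w i]; infer_instance
  obtain ⟨N, _, j, hj, hjc, hN, hN', hjr⟩ := exists_redComponent K
  haveI : IsCommMonObj A := isCommMonObj_of_isProper_of_geometricallyIntegral A
  haveI : Mono i := (Over.forget _).mono_of_mono_map (inferInstanceAs (Mono i.left))
  haveI : Mono j := (Over.forget _).mono_of_mono_map (inferInstanceAs (Mono j.left))
  haveI : IsClosedImmersion (j ≫ i).left := inferInstanceAs (IsClosedImmersion (j.left ≫ i.left))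
  haveI : IsLocallyNoetherian K.left := LocallyOfFiniteType.isLocallyNoetherian K.hom
  haveI : CompactSpace K.left := QuasiCompact.compactSpace_of_compactSpace K.hom
  haveI : IsNoetherian K.left := {}
  have hkw : i ≫ φ = 1 := hker.w
  refine ⟨N, ‹_›, j ≫ i, inferInstance, inferInstance, hN, hN', by rw [Category.assoc, hkw, MonObj.comp_one],
    (irreducibleComponents K.left).ncard, fun n hfin => ?_⟩
  haveI : Finite {Q : 𝐩 ⟶ N // Q ^ n = 1} := hfin.to_subtype
  haveI : Finite (irreducibleComponents K.left) := NoetherianSpace.finite_irreducibleComponents.to_subtype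
  have hlift : ∀ P : {P : 𝐩 ⟶ A // P ≫ φ = 1 ∧ P ^ n = 1}, ∃ x : 𝐩 ⟶ K, x ≫ i = P.1 := fun P =>
    ⟨hker.lift P.1 (toUnit _) (P.2.1.trans rfl), hker.lift_fst _ _ _⟩
  choose x hx using hlift
  let pt := IsLocalRing.closedPoint k
  let c : {P : 𝐩 ⟶ A // P ≫ φ = 1 ∧ P ^ n = 1} → irreducibleComponents K.left := fun P =>
    ⟨irreducibleComponent ((x P).left pt), irreducibleComponent_mem_irreducibleComponents _⟩
  have hdiff : ∀ P P', c P = c P' → ∃ Q : {Q : 𝐩 ⟶ N // Q ^ n = 1}, Q.1 ≫ j ≫ i = P.1⁻¹ * P'.1 := by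
    intro P P' hc
    let t : K ⟶ K := (toUnit K ≫ (x P)⁻¹) * 𝟙 K
    have ht : ∀ y : 𝐩 ⟶ K, y ≫ t = (x P)⁻¹ * y := fun y => by
      rw [MonObj.comp_mul, Category.comp_id, ← Category.assoc, toUnit_unique (y ≫ toUnit K) (𝟙 _), Category.id_comp]
    let Z := irreducibleComponent ((x P).left pt)
    have hZ : _root_.IsPreconnected (t.left '' Z) :=
      (isIrreducible_irreducibleComponent.image _ t.left.continuous.continuousOn).isConnected.isPreconnected
    have hone : η[K].left pt ∈ t.left '' Z := ⟨_, mem_irreducibleComponent, by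
      rw [← Scheme.Hom.comp_apply, ← Over.comp_left, ht, inv_mul_cancel, MonObj.one_eq_one]⟩
    have hmem : ((x P)⁻¹ * x P').left pt ∈ Set.range j.left := by
      rw [hjr]
      refine hZ.subset_connectedComponent hone ⟨(x P').left pt, ?_, ?_⟩
      · have : irreducibleComponent ((x P).left pt) = irreducibleComponent ((x P').left pt) := congrArg Subtype.val hc
        show (x P').left pt ∈ irreducibleComponent ((x P).left pt)
        rw [this]
        exact mem_irreducibleComponent
      rw [← Scheme.Hom.comp_apply, ← Over.comp_left, ht]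
    haveI : IsReduced (𝐩).left := inferInstanceAs (IsReduced (Spec (CommRingCat.of k)))
    obtain ⟨q, hq⟩ := RedSub.exists_lift_closed (((x P)⁻¹ * x P').left) j.left (by
      rintro _ ⟨p, rfl⟩
      rwa [show p = pt from Subsingleton.elim (α := PrimeSpectrum k) _ _])
    let Q : 𝐩 ⟶ N := Over.homMk q (by rw [← Over.w j, reassoc_of% hq, Over.w])
    have hQ : Q ≫ j ≫ i = P.1⁻¹ * P'.1 := by
      rw [← Category.assoc, show Q ≫ j = (x P)⁻¹ * x P' from Over.OverMorphism.ext hq, MonObj.mul_comp,
        GrpObj.inv_comp, hx, hx]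
    refine ⟨⟨Q, ?_⟩, hQ⟩
    apply (cancel_mono (j ≫ i)).1
    rw [MonObj.pow_comp, hQ, MonObj.one_comp, mul_pow, inv_pow, P.2.2, P'.2.2, inv_one, _root_.one_mul]
  classical
  let rep : irreducibleComponents K.left → Option {P : 𝐩 ⟶ A // P ≫ φ = 1 ∧ P ^ n = 1} := fun Z =>
    if h : ∃ P, c P = Z then some h.choose else none
  have hrep : ∀ P, ∃ P₀, rep (c P) = some P₀ ∧ c P₀ = c P := fun P => by
    have h : ∃ P', c P' = c P := ⟨P, rfl⟩
    exact ⟨h.choose, dif_pos h, h.choose_spec⟩
  choose r hr hrc using hrep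
  choose Q hQ using fun P => hdiff (r P) P (hrc P)
  refine (Nat.card_le_card_of_injective (fun P => (c P, Q P)) ?_).trans (le_of_eq ?_)
  · intro P P' h
    rw [Prod.mk.injEq] at h
    have h1 : r P = r P' := Option.some.inj ((hr P).symm.trans (h.1 ▸ hr P'))
    have h2 := hQ P
    rw [h.2, hQ P', h1] at h2
    exact Subtype.ext (mul_left_cancel h2).symm
  · rw [Nat.card_prod, Nat.card_coe_set_eq]

theorem exists_dim (A : Over (Spec (CommRingCat.of k))) [IsProper A.hom] [GeometricallyIntegral A.hom] :
    ∃ g : ℕ, topologicalKrullDim A.left = g := by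
  haveI : IsIntegral A.left := GeometricallyIntegral.isIntegral_of_subsingleton A.hom
  exact ⟨_, VarDim.topologicalKrullDim_eq_deg_genericPoint A.hom⟩

theorem finite_pow_eq_one (A : Over (Spec (CommRingCat.of k))) [GrpObj A] [IsProper A.hom]
    [GeometricallyIntegral A.hom] {n : ℕ} (hn : (n : k) ≠ 0) : Set.Finite {P : 𝐩 ⟶ A | P ^ n = 1} := by
  haveI : IsCommMonObj A := isCommMonObj_of_isProper_of_geometricallyIntegral A
  obtain ⟨g, hg⟩ := exists_dim A
  have h := card_torsPts A hg hn
  have : Finite (AbDual.torsPts A n 𝐩) := Nat.finite_of_card_ne_zero (by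
    rw [h]; exact pow_ne_zero _ fun h => hn (by rw [h, Nat.cast_zero]))
  exact @Set.toFinite _ _ this

/-- A homomorphism killing all `l`-power torsion points is trivial. -/
theorem eq_one_of_kill (φ : A ⟶ B) [IsMonHom φ] {l : ℕ} [Fact l.Prime] (hl : (l : k) ≠ 0)
    (h : ∀ (n : ℕ) (P : 𝐩 ⟶ A), P ^ (l ^ n) = 1 → P ≫ φ = 1) : φ = 1 := by
  obtain ⟨N, _, j, hj, hjc, hN, hN', hjφ, m, hm⟩ := exists_kerSub φ
  haveI : IsCommMonObj A := isCommMonObj_of_isProper_of_geometricallyIntegral A
  haveI : IsCommMonObj N := isCommMonObj_of_isProper_of_geometricallyIntegral N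
  obtain ⟨g, hg⟩ := exists_dim A
  obtain ⟨d, hd⟩ := exists_dim N
  haveI : IsIntegral A.left := GeometricallyIntegral.isIntegral_of_subsingleton A.hom
  haveI : IsIntegral N.left := GeometricallyIntegral.isIntegral_of_subsingleton N.hom
  have hle : g ≤ d := by
    by_contra hlt
    push Not at hlt
    have hl1 : 1 < l := (Fact.out : l.Prime).one_lt
    obtain ⟨n, hn⟩ := pow_unbounded_of_one_lt m hl1
    have hne : ((l ^ n : ℕ) : k) ≠ 0 := by rw [Nat.cast_pow]; exact pow_ne_zero _ hl
    have h1 := hm (l ^ n) (finite_pow_eq_one N hne)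
    rw [Nat.card_congr (Equiv.subtypeEquivRight (p := fun P : 𝐩 ⟶ A => P ≫ φ = 1 ∧ P ^ (l ^ n) = 1)
      (q := fun P => P ∈ AbDual.torsPts A (l ^ n) 𝐩) fun P => ⟨fun hP => hP.2, fun hP => ⟨h n P hP, hP⟩⟩),
      card_torsPts A hg hne,
      show Nat.card {Q : 𝐩 ⟶ N // Q ^ (l ^ n) = 1} = _ from card_torsPts N hd hne] at h1
    have h2 : (l ^ n) ^ (2 * d + 1) ≤ (l ^ n) ^ (2 * g) := Nat.pow_le_pow_right (by positivity) (by omega)
    have h3 : m * (l ^ n) ^ (2 * d) < (l ^ n) * (l ^ n) ^ (2 * d) := Nat.mul_lt_mul_of_pos_right hn (by positivity)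
    rw [← pow_succ'] at h3
    omega
  have hge : d ≤ g := by
    have := j.left.isClosedEmbedding.topologicalKrullDim_le
    rw [hg, hd] at this
    exact_mod_cast this
  haveI : IsFinite j.left := inferInstance
  haveI : Surjective j.left := Isogeny.surjective_of_isFinite N.hom A.hom j.left (Over.w j)
    (by rw [hd, hg, show d = g by omega])
  haveI : IsIso j.left := isIso_of_isClosedImmersion_of_surjective j.left
  haveI : IsIso ((Over.forget _).map j) := ‹IsIso j.left›
  haveI : IsIso j := isIso_of_reflects_iso j (Over.forget _)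
  rw [← cancel_epi j, hjφ, MonObj.comp_one]

end Groth.Agent.AbTors
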