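import Groth.Agent.AbTors.Hom

/-!
The rank of the group of homomorphisms of abelian varieties and its finite generation.
-/

set_option linter.style.haveILetI false
set_option linter.unusedSectionVars false
set_option backward.isDefEq.respectTransparency false
set_option backward.isDefEq.respectTransparency.types false
set_option maxHeartbeats 1000000

universe u

open CategoryTheory CategoryTheory.Limits MonoidalCategory CartesianMonoidalCategory MonObj AlgebraicGeometry TopologicalSpace

namespace Groth.Agent.AbTors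

variable {k : Type u} [Field k] [IsAlgClosed k]

theorem exists_prime_ne_zero (k : Type u) [Field k] : ∃ l : ℕ, l.Prime ∧ (l : k) ≠ 0 := by
  by_cases h : (2 : k) = 0
  · refine ⟨3, Nat.prime_three, fun h3 => one_ne_zero (α := k) ?_⟩
    push_cast at h3
    linear_combination h3 - h
  · exact ⟨2, Nat.prime_two, by exact_mod_cast h⟩

variable (A B : Over (Spec (CommRingCat.of k))) [GrpObj A] [IsProper A.hom] [GeometricallyIntegral A.hom]
  [GrpObj B] [IsCommMonObj B] [IsProper B.hom] [GeometricallyIntegral B.hom]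

theorem card_le {g h : ℕ} (hg : topologicalKrullDim A.left = g) (hh : topologicalKrullDim B.left = h) {n : ℕ}
    (e : Fin n → (A ⟶ B)) [∀ i, IsMonHom (e i)] (he : LinearIndependent ℤ fun i => Additive.ofMul (e i)) :
    n ≤ 4 * g * h := by
  haveI : IsCommMonObj A := isCommMonObj_of_isProper_of_geometricallyIntegral A
  obtain ⟨l, hl, hlk⟩ := exists_prime_ne_zero k
  haveI : Fact l.Prime := ⟨hl⟩
  let T : Over (Spec (CommRingCat.of k)) := Over.mk (𝟙 (Spec (CommRingCat.of k)))
  obtain ⟨EA⟩ := exists_tateEquiv (l := l) (A := A) (T := T) (r := 2 * g) (divisible A hl.one_le) (fun n => by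
    rw [pow_mul]
    exact card_torsPts A hg (N := l ^ n) (by rw [Nat.cast_pow]; exact pow_ne_zero _ hlk))
  obtain ⟨EB⟩ := exists_tateEquiv (l := l) (A := B) (T := T) (r := 2 * h) (divisible B hl.one_le) (fun n => by
    rw [pow_mul]
    exact card_torsPts B hh (N := l ^ n) (by rw [Nat.cast_pow]; exact pow_ne_zero _ hlk))
  haveI := Module.Free.of_equiv EA
  haveI := Module.Free.of_equiv EB
  haveI := Module.Finite.equiv EA
  haveI := Module.Finite.equiv EB
  have key := (linearIndependent_tateMapₗ hlk e he).fintype_card_le_finrank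
  rw [Fintype.card_fin, Module.finrank_linearMap, ← EA.finrank_eq, ← EB.finrank_eq, Module.finrank_fin_fun,
    Module.finrank_fin_fun] at key
  nlinarith

/-- The homomorphisms form a finitely generated group. -/
theorem fg_homs : (⊤ : AddSubgroup (HomAb A B)).FG := by
  classical
  obtain ⟨g, hg⟩ := exists_dim A
  obtain ⟨h, hh⟩ := exists_dim B
  have hbd : ∀ (n : ℕ) (e : Fin n → HomAb A B), LinearIndependent ℤ e → n ≤ 4 * g * h := by
    intro n e he
    haveI : ∀ i, IsMonHom ((e i).toMul.1 : A ⟶ B) := fun i => (e i).toMul.2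
    refine card_le A B hg hh (fun i => ((e i).toMul.1 : A ⟶ B)) ?_
    exact he.map' (MonoidHom.toAdditive (homs A B).subtype).toIntLinearMap
      (LinearMap.ker_eq_bot.2 fun x y hxy => Additive.toMul.injective (Subtype.ext hxy))
  obtain ⟨n, e, he, hmax⟩ : ∃ n, ∃ e : Fin n → HomAb A B, LinearIndependent ℤ e ∧
      ∀ e' : Fin (n + 1) → HomAb A B, ¬ LinearIndependent ℤ e' := by
    by_contra hc
    push Not at hc
    have : ∀ n, ∃ e : Fin n → HomAb A B, LinearIndependent ℤ e := by
      intro n
      induction n with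
      | zero => exact ⟨Fin.elim0, linearIndependent_empty_type⟩
      | succ n ih => obtain ⟨e, he⟩ := ih; exact hc n e he
    obtain ⟨e, he⟩ := this (4 * g * h + 1)
    exact absurd (hbd _ e he) (by omega)
  obtain ⟨S, hS, heS, hsat⟩ := fg_saturation A B e
  suffices S = ⊤ by rwa [this] at hS
  refine AddSubgroup.eq_top_iff' S |>.2 fun x => ?_
  have hd := hmax (Fin.snoc e x)
  rw [Fintype.linearIndependent_iff] at hd
  push Not at hd
  obtain ⟨a, ha, i, hi⟩ := hd
  rw [Fin.sum_univ_castSucc] at ha
  simp only [Fin.snoc_castSucc, Fin.snoc_last] at ha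
  have hlast : a (Fin.last n) ≠ 0 := fun h0 => by
    rw [h0, zero_zsmul, add_zero] at ha
    have := Fintype.linearIndependent_iff.1 he _ ha
    exact hi (Fin.lastCases h0 this i)
  have hmem : a (Fin.last n) • x ∈ S := by
    rw [eq_neg_of_add_eq_zero_right ha]
    exact neg_mem (sum_mem fun j _ => zsmul_mem (heS j) _)
  refine hsat x (a (Fin.last n)).natAbs (Int.natAbs_ne_zero.2 hlast) ?_
  rcases Int.natAbs_eq (a (Fin.last n)) with h1 | h1
  · rw [← natCast_zsmul, ← h1]; exact hmem
  · rw [← natCast_zsmul, show ((a (Fin.last n)).natAbs : ℤ) = -a (Fin.last n) by omega, neg_zsmul]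
    exact neg_mem hmem

theorem exists_generators : ∃ S : Finset (A ⟶ B), (∀ f ∈ S, IsMonHom f) ∧
    ∀ f : A ⟶ B, IsMonHom f → f ∈ Subgroup.closure (S : Set (A ⟶ B)) := by
  classical
  obtain ⟨S, hS⟩ := fg_homs A B
  refine ⟨S.image fun x => (x.toMul.1 : A ⟶ B), fun f hf => ?_, fun f hf => ?_⟩
  · obtain ⟨x, -, rfl⟩ := Finset.mem_image.1 hf
    exact x.toMul.2
  · have : Additive.ofMul (⟨f, hf⟩ : homs A B) ∈ AddSubgroup.closure (S : Set (HomAb A B)) := hS ▸ trivial
    let G : AddSubgroup (HomAb A B) :=
      AddSubgroup.comap (MonoidHom.toAdditive (homs A B).subtype)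
        (Subgroup.toAddSubgroup (Subgroup.closure ((S.image fun x => (x.toMul.1 : A ⟶ B) : Finset (A ⟶ B)) : Set (A ⟶ B))))
    exact (AddSubgroup.closure_le G).2 (fun x hx => Subgroup.subset_closure (Finset.mem_coe.2 (Finset.mem_image_of_mem _ hx))) this

end Groth.Agent.AbTors
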