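import Groth.Agent.AbTors.Sub

/-!
The Tate module of an abelian variety over an algebraically closed field is free of rank `2g`.
-/

set_option linter.style.haveILetI false
set_option linter.unusedSectionVars false
set_option backward.isDefEq.respectTransparency false
set_option backward.isDefEq.respectTransparency.types false
set_option maxHeartbeats 1000000

universe u

open CategoryTheory CategoryTheory.Limits MonoidalCategory CartesianMonoidalCategory MonObj AlgebraicGeometry TopologicalSpace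

namespace Groth.Agent.AbTors

variable {k : Type u} [Field k] [IsAlgClosed k]

local notation "𝐩" => 𝟙_ (Over (Spec (CommRingCat.of k)))

/-- Two `k`-points with the same image are equal. -/
theorem point_ext {Y : Over (Spec (CommRingCat.of k))} [LocallyOfFiniteType Y.hom] {a b : 𝐩 ⟶ Y}
    (h : a.left (IsLocalRing.closedPoint k) = b.left (IsLocalRing.closedPoint k)) : a = b := by
  apply Over.OverMorphism.ext
  exact congrArg Subtype.val ((pointEquivClosedPoint Y.hom).injective
    (a₁ := ⟨a.left, Over.w a⟩) (a₂ := ⟨b.left, Over.w b⟩) (Subtype.ext h))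

/-- A surjective morphism of schemes of finite type is surjective on `k`-points. -/
theorem exists_point_lift {X Y : Over (Spec (CommRingCat.of k))} [LocallyOfFiniteType X.hom]
    [LocallyOfFiniteType Y.hom] (φ : X ⟶ Y) [Surjective φ.left] (b : 𝐩 ⟶ Y) : ∃ a : 𝐩 ⟶ X, a ≫ φ = b := by
  haveI : JacobsonSpace X.left := LocallyOfFiniteType.jacobsonSpace X.hom
  let y := (pointEquivClosedPoint Y.hom ⟨b.left, Over.w b⟩)
  obtain ⟨x0, hx0⟩ := φ.left.surjective y.1
  obtain ⟨x, hx, hxc⟩ := nonempty_inter_closedPoints (Z := φ.left ⁻¹' {y.1}) ⟨x0, hx0⟩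
    (y.2.preimage φ.left.continuous).isLocallyClosed
  refine ⟨Over.homMk (pointOfClosedPoint X.hom x hxc) (pointOfClosedPoint_comp _ _ _), point_ext ?_⟩
  show φ.left (pointOfClosedPoint X.hom x hxc _) = _
  rw [pointOfClosedPoint_apply]
  exact hx

theorem exists_root (A : Over (Spec (CommRingCat.of k))) [GrpObj A] [IsProper A.hom] [GeometricallyIntegral A.hom]
    {n : ℕ} (hn : 1 ≤ n) (a : 𝐩 ⟶ A) : ∃ b : 𝐩 ⟶ A, b ^ n = a := by
  haveI := AVMulN.surjective_pow (A := A) n hn
  obtain ⟨b, hb⟩ := exists_point_lift (𝟙 A ^ n : A ⟶ A) a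
  exact ⟨b, by rw [← hb, MonObj.comp_pow, Category.comp_id]⟩

section Abstract

variable {M : Type u} [AddCommGroup M] {l : ℕ} [hl : Fact l.Prime] {r : ℕ}

/-- A system of elements reducing to a basis of the `l`-torsion generates every `l ^ n`-torsion group. -/
theorem exists_system (hdiv : ∀ x : M, ∃ y : M, l • y = x)
    (hcard : ∀ n, Nat.card {x : M // (l ^ n) • x = 0} = l ^ (n * r)) :
    ∃ x : ℕ → Fin r → M, (∀ n i, l • x (n + 1) i = x n i) ∧ (∀ n i, (l ^ n) • x n i = 0) ∧
      (∀ n (y : M), (l ^ n) • y = 0 → ∃ c : Fin r → ℕ, ∑ i, c i • x n i = y) ∧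
      (∀ n (c : Fin r → ℤ), ∑ i, c i • x n i = 0 → ∀ i, (l ^ n : ℤ) ∣ c i) := by
  classical
  let V := (nsmulAddMonoidHom (α := M) l).ker
  have hV : ∀ v : V, l • v = 0 := fun v => Subtype.ext v.2
  have instV : Module (ZMod l) V := AddCommGroup.zmodModule hV
  have hVc : Nat.card V = l ^ r := by
    have := hcard 1
    rw [pow_one, _root_.one_mul] at this
    exact this
  haveI : Finite V := Nat.finite_of_card_ne_zero (by rw [hVc]; exact pow_ne_zero _ hl.out.ne_zero)
  haveI : Module.Finite (ZMod l) V := Module.Finite.of_finite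
  have hrk : Module.finrank (ZMod l) V = r := by
    have h := Module.natCard_eq_pow_finrank (K := ZMod l) (V := V)
    rw [hVc, Nat.card_zmod] at h
    exact (Nat.pow_right_injective hl.out.two_le h).symm
  haveI : Module.Free (ZMod l) V := Module.Free.of_divisionRing (ZMod l) V
  let b : Module.Basis (Fin r) (ZMod l) V := Module.finBasisOfFinrankEq (ZMod l) V hrk
  let d : M → M := fun x => (hdiv x).choose
  have hd : ∀ x, l • d x = x := fun x => (hdiv x).choose_spec
  let x : ℕ → Fin r → M := fun n => Nat.rec (motive := fun _ => Fin r → M) (fun _ => 0)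
    (fun m ih => if m = 0 then fun i => (b i : M) else fun i => d (ih i)) n
  have hx1 : ∀ i, x 1 i = (b i : M) := fun i => rfl
  have hstep : ∀ n i, l • x (n + 1) i = x n i := by
    rintro (_ | n) i
    · exact (b i).2
    · exact hd _
  have htor : ∀ n i, (l ^ n) • x n i = 0 := by
    intro n
    induction n with
    | zero => intro i; exact smul_zero _
    | succ n ih => intro i; rw [pow_succ, mul_nsmul', hstep, ih]
  have hiter : ∀ n i, (l ^ n) • x (n + 1) i = x 1 i := by
    intro n
    induction n with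
    | zero => intro i; rw [pow_zero, one_nsmul, Nat.zero_add]
    | succ n ih => intro i; rw [pow_succ, mul_nsmul', hstep, ih]
  have hgen1 : ∀ y : M, l • y = 0 → ∃ c : Fin r → ℕ, ∑ i, c i • x 1 i = y := fun y hy => by
    refine ⟨fun i => (b.repr ⟨y, hy⟩ i).val, ?_⟩
    have h := congrArg Subtype.val (b.sum_repr ⟨y, hy⟩)
    rw [AddSubgroup.val_finsetSum] at h
    refine Eq.trans (Finset.sum_congr rfl fun i _ => ?_) h
    rw [hx1, ← AddSubgroup.coe_nsmul]
    congr 1
    conv_rhs => rw [← ZMod.natCast_zmod_val (b.repr ⟨y, hy⟩ i), Nat.cast_smul_eq_nsmul]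
  have hgen : ∀ n (y : M), (l ^ n) • y = 0 → ∃ c : Fin r → ℕ, ∑ i, c i • x n i = y := by
    intro n
    induction n with
    | zero =>
      intro y hy
      rw [pow_zero, one_nsmul] at hy
      exact ⟨0, by simp [hy]⟩
    | succ n ih =>
      intro y hy
      rw [pow_succ, mul_nsmul'] at hy
      obtain ⟨c, hc⟩ := ih (l • y) hy
      obtain ⟨e, he⟩ := hgen1 (y - ∑ i, c i • x (n + 1) i) (by
        rw [smul_sub, Finset.smul_sum, ← hc, sub_eq_zero]
        refine Finset.sum_congr rfl fun i _ => ?_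
        rw [smul_comm, hstep])
      refine ⟨fun i => c i + e i * l ^ n, ?_⟩
      simp only [add_nsmul, Finset.sum_add_distrib, mul_nsmul', hiter, he, add_sub_cancel]
  refine ⟨x, hstep, htor, hgen, fun n => ?_⟩
  haveI : NeZero (l ^ n) := ⟨pow_ne_zero _ hl.out.ne_zero⟩
  let f : (Fin r → ZMod (l ^ n)) → {y : M // (l ^ n) • y = 0} := fun c => ⟨∑ i, (c i).val • x n i, by
    rw [Finset.smul_sum]
    exact Finset.sum_eq_zero fun i _ => by rw [smul_comm, htor, smul_zero]⟩
  have hzmod : ∀ (c : ℤ) i, ((c : ZMod (l ^ n))).val • x n i = c • x n i := fun c i => by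
    rw [← natCast_zsmul, ← sub_eq_zero, sub_eq_add_neg, ← sub_zsmul]
    obtain ⟨q, hq⟩ : (l ^ n : ℤ) ∣ ((c : ZMod (l ^ n)).val : ℤ) - c := by
      have : ((((c : ZMod (l ^ n)).val : ℤ) - c : ℤ) : ZMod (l ^ n)) = 0 := by simp
      exact_mod_cast (ZMod.intCast_zmod_eq_zero_iff_dvd _ _).1 this
    rw [hq, mul_comm, mul_zsmul, show (l ^ n : ℤ) = ((l ^ n : ℕ) : ℤ) by push_cast; rfl, natCast_zsmul, htor, smul_zero]
  have hsurj : Function.Surjective f := fun y => by
    obtain ⟨c, hc⟩ := hgen n y y.2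
    refine ⟨fun i => ((c i : ℤ) : ZMod (l ^ n)), Subtype.ext ?_⟩
    show ∑ i, ((((c i : ℤ)) : ZMod (l ^ n))).val • x n i = (y : M)
    simpa only [hzmod, natCast_zsmul] using hc
  haveI : Finite {y : M // (l ^ n) • y = 0} := Finite.of_surjective f hsurj
  have hinj := (hsurj.bijective_of_nat_card_le (by
    rw [hcard, Nat.card_fun, Nat.card_zmod, Nat.card_eq_fintype_card, Fintype.card_fin, pow_mul])).1
  intro c hc i
  have : f (fun i => (c i : ZMod (l ^ n))) = f 0 := Subtype.ext (by
    simp only [f, Pi.zero_apply, ZMod.val_zero, zero_nsmul, Finset.sum_const_zero]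
    refine Eq.trans (Finset.sum_congr rfl fun i _ => ?_) hc
    exact hzmod _ _)
  exact_mod_cast (ZMod.intCast_zmod_eq_zero_iff_dvd _ _).1 (congrFun (hinj this) i)

end Abstract

variable {l : ℕ} [hl : Fact l.Prime] {S : Scheme.{u}} {A : Over S} [GrpObj A] [IsCommMonObj A] {T : Over S} {r : ℕ}

theorem exists_tateEquiv (hdiv : ∀ x : Additive (T ⟶ A), ∃ y, l • y = x)
    (hcard : ∀ n, Nat.card {x : Additive (T ⟶ A) // (l ^ n) • x = 0} = l ^ (n * r)) :
    Nonempty ((Fin r → ℤ_[l]) ≃ₗ[ℤ_[l]] AbDual.TateMod A l T) := by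
  obtain ⟨x, hstep, htor, hgen, hind⟩ := exists_system hdiv hcard
  let X : Fin r → AbDual.TateMod A l T := fun i => ⟨fun n => x n i, fun n => htor n i, fun n => hstep n i⟩
  let Φ := Fintype.linearCombination ℤ_[l] X
  have hΦ : ∀ a n, ((Φ a : AbDual.TateMod A l T) : ℕ → Additive (T ⟶ A)) n = ∑ i, (a i).appr n • x n i := fun a n => by
    show AbDual.TateMod.component A l T n (∑ i, a i • X i) = _
    rw [map_sum]
    rfl
  have hsub : ∀ n (c c' : Fin r → ℕ), ∑ i, c i • x n i = ∑ i, c' i • x n i → ∀ i, c i ≡ c' i [MOD l ^ n] := by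
    intro n c c' h i
    rw [Nat.modEq_iff_dvd]
    push_cast
    exact hind n (fun i => (c' i : ℤ) - c i) (by
      simp only [sub_zsmul, natCast_zsmul, ← sub_eq_add_neg, Finset.sum_sub_distrib, h, sub_self]) i
  refine ⟨LinearEquiv.ofBijective Φ ⟨(injective_iff_map_eq_zero Φ).2 fun a ha => funext fun i => ?_, fun t => ?_⟩⟩
  · refine PadicInt.ext_of_toZModPow.1 fun n => ?_
    rw [AbDual.toZModPow_eq_appr, Pi.zero_apply, map_zero]
    have h : ∑ i, (a i).appr n • x n i = ∑ i, (0 : Fin r → ℕ) i • x n i := by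
      rw [← hΦ, ha]
      simp
    exact (ZMod.natCast_eq_zero_iff _ _).2 (Nat.modEq_zero_iff_dvd.1 (hsub n _ _ h i))
  · choose c hc using fun n => hgen n ((t : ℕ → Additive (T ⟶ A)) n) (t.torsion n)
    have hcc : ∀ n i, c (n + 1) i ≡ c n i [MOD l ^ n] := fun n => hsub n _ _ (by
      conv_rhs => rw [hc, ← t.compat n, ← hc (n + 1), Finset.smul_sum]
      exact Finset.sum_congr rfl fun j _ => by rw [smul_comm, hstep])
    have hlim : ∀ i, ∃ a : ℤ_[l], ∀ n, PadicInt.toZModPow n a = (c n i : ZMod (l ^ n)) := by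
      intro i
      obtain ⟨a, ha⟩ := IsPrecomplete.prec (I := IsLocalRing.maximalIdeal ℤ_[l]) (M := ℤ_[l]) inferInstance
        (f := fun n => (c n i : ℤ_[l])) (fun {m n} hmn => by
          rw [smul_eq_mul, Ideal.mul_top, PadicInt.maximalIdeal_eq_span_p, Ideal.span_singleton_pow,
            SModEq.sub_mem, ← PadicInt.ker_toZModPow, RingHom.mem_ker, map_sub, map_natCast, map_natCast, sub_eq_zero,
            ZMod.natCast_eq_natCast_iff]
          induction n, hmn using Nat.le_induction with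
          | base => rfl
          | succ n hmn ih => exact ih.trans ((hcc n i).of_dvd (pow_dvd_pow l hmn)).symm)
      refine ⟨a, fun n => ?_⟩
      have h := ha n
      rw [smul_eq_mul, Ideal.mul_top, PadicInt.maximalIdeal_eq_span_p, Ideal.span_singleton_pow,
        SModEq.sub_mem, ← PadicInt.ker_toZModPow, RingHom.mem_ker, map_sub, map_natCast, sub_eq_zero] at h
      exact h.symm
    choose a ha using hlim
    refine ⟨a, AbDual.TateMod.ext fun n => ?_⟩
    rw [hΦ, ← hc n]
    refine Finset.sum_congr rfl fun i _ => AbDual.nsmul_congr_of_modEq (htor n i) ?_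
    rw [← ZMod.natCast_eq_natCast_iff, ← AbDual.toZModPow_eq_appr]
    exact ha i n

end Groth.Agent.AbTors
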